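import Cfsg.Agent.H966.Der.McL
import Cfsg.Agent.H384.Dim24
import Cfsg.Agent.H845.HNNineteen
import Cfsg.Agent.H845.HNSeven
import Cfsg.Agent.H704.Spor49.Harada
import Cfsg.Agent.H525.RO.HnElt
import Cfsg.Agent.H686.TZ.Alt
import Cfsg.Agent.NotCT.Orders

/-!
# One class of derangements (S3500): `HN` (helper966)
-/

set_option autoImplicit false

namespace Cfsg.Agent.H966.Der

open Subgroup Cfsg
open Cfsg.Agent.OrdDiv Cfsg.Agent.H257.El Cfsg.Agent.H439.Der Cfsg.Agent.H938.Sax

universe u

theorem no_21_m22 {S : Type*} [Group S] (h : Spor.IsoM22 S) (z : S) : orderOf z ≠ 21 := by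
  obtain ⟨e⟩ := h
  intro hz
  exact Cfsg.Agent.H384.Dim24.m22_no (x := e z) (by rw [MulEquiv.orderOf_eq, hz])

/-- the index of an alternating group at the top is 1 or 2 -/
theorem index_alt {R : Type u} [Group R] [Finite R] {r : ℕ} {O : Subgroup R} [O.Normal] {N : Subgroup (R ⧸ O)}
    (hT : Top R r O N) (hna : ¬ ∀ a b : N, a * b = b * a) {n : ℕ} (hn : 7 ≤ n)
    (e : N ≃* alternatingGroup (Fin n)) : N.index ∣ 2 := by
  have hNn := hT.normal
  by_cases h1 : N = ⊤
  · rw [h1, Subgroup.index_top]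
    exact one_dvd 2
  · obtain ⟨f⟩ := Cfsg.Agent.H686.TZ.equiv_perm (n := n) hn N e (centralizer_top hT hna) h1
    have h2 : Nontrivial (Fin n) := Fin.nontrivial_iff_two_le.2 (by omega)
    have h3 : 2 * Nat.card (alternatingGroup (Fin n)) = Nat.card (Equiv.Perm (Fin n)) := by
      rw [Nat.card_eq_fintype_card, Nat.card_eq_fintype_card]
      exact two_mul_card_alternatingGroup
    rw [← Nat.card_congr f.toEquiv, ← Nat.card_congr e.toEquiv, ← Subgroup.card_mul_index N, mul_comm] at h3
    have h4 := Nat.eq_of_mul_eq_mul_left Nat.card_pos h3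
    rw [h4]

namespace HN

def l : List (ℕ × ℕ) := [(2, 14), (3, 6), (5, 6), (7, 1), (11, 1), (19, 1)]

theorem valid_l : valid l 273030912000000 = true := by decide +kernel

variable {T : Type u} [Group T]

theorem finite (h : Spor.IsoHN T) : Finite T :=
  Nat.finite_of_card_ne_zero (by rw [Cfsg.Agent.NotCT.Orders.hn h]; norm_num)

theorem exists_ord (h : Spor.IsoHN T) {m : ℕ} (hm : ∃ x : Spor.HN, orderOf x = m) : ∃ x : T, orderOf x = m := by
  obtain ⟨e⟩ := h
  obtain ⟨x, hx⟩ := hm
  exact ⟨e.symm x, by rw [MulEquiv.orderOf_eq, hx]⟩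

theorem ord_25 : ∃ x : Spor.HN, orderOf x = 25 := by
  have := Cfsg.Agent.H710.Spor.HN.isSimple_hn
  exact ⟨_, Cfsg.Agent.H525.RO.HnElt.orderOf_r⟩

theorem ord_22 : ∃ x : Spor.HN, orderOf x = 22 := by
  have hc := Cfsg.Agent.H704.Spor49.Harada.card_cent
  have := Cfsg.Agent.H710.Spor.HN.finite_hn
  have h2 : Fact (Nat.Prime 2) := ⟨Nat.prime_two⟩
  obtain ⟨⟨t, ht⟩, hto⟩ := exists_prime_orderOf_dvd_card' 2 ((dvd_mul_right 2 11).trans hc.symm.dvd)
  rw [Subgroup.orderOf_mk] at hto
  refine ⟨_, orderOf_mul_of_comm (r := 11) (s := 2) (by norm_num) (by norm_num) (by norm_num)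
    Cfsg.Agent.H710.Spor.HNMix.orderOf_ψx hto (mem_centralizer_singleton_iff.1 ht).symm⟩

theorem ord_21 : ∃ x : Spor.HN, orderOf x = 21 := by
  obtain ⟨x, K, hx, ⟨e⟩, hK, -⟩ := Cfsg.Agent.H845.HNSeven.hn_seven
  have h3 : Fact (Nat.Prime 3) := ⟨Nat.prime_three⟩
  obtain ⟨k, hk⟩ := exists_prime_orderOf_dvd_card' (G := alternatingGroup (Fin 5)) 3 (by
    have h1 : 2 * Nat.card (alternatingGroup (Fin 5)) = Nat.card (Equiv.Perm (Fin 5)) := by
      rw [Nat.card_eq_fintype_card, Nat.card_eq_fintype_card]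
      exact two_mul_card_alternatingGroup
    rw [Nat.card_perm, Nat.card_fin] at h1
    have h2 : Nat.factorial 5 = 120 := by decide
    omega)
  have hk' : orderOf ((e.symm k : K) : Spor.HN) = 3 := by rw [Subgroup.orderOf_coe, MulEquiv.orderOf_eq, hk]
  exact ⟨_, orderOf_mul_of_comm (r := 7) (s := 3) (by norm_num) (by norm_num) (by norm_num) hx hk'
    (hK _ (e.symm k).2).symm⟩

theorem iso_19 (h : Spor.IsoHN T) (p : ℕ) (hp : p.Prime) (hrp : 19 ≠ p) (z : T) : orderOf z ≠ 19 * p := by
  have := Cfsg.Agent.H710.Spor.HN.finite_hn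
  have hc := Cfsg.Agent.H710.Spor.HN.card_hn
  obtain ⟨e⟩ := h
  rw [← MulEquiv.orderOf_eq e z]
  refine no_of_cent (by norm_num) (fun x hx => ?_) p hp hrp (e z)
  obtain ⟨y, hy, hyc⟩ := Cfsg.Agent.H845.HNNineteen.hn_nineteen
  exact (card_cent_eq (by norm_num) (by rw [hc]; norm_num) hx hy).trans hyc

theorem no_11 (h : Spor.IsoHN T) {k : ℕ} (hk : k ≠ 0) (hd : ¬ 11 * k ∣ 22) (z : T) : orderOf z ≠ 11 * k := by
  have := Cfsg.Agent.H710.Spor.HN.finite_hn
  have hc := Cfsg.Agent.H710.Spor.HN.card_hn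
  obtain ⟨e⟩ := h
  rw [← MulEquiv.orderOf_eq e z]
  refine no_of_cent' (c := 22) (fun x hx => ?_) hk hd (e z)
  rw [card_cent_eq (by norm_num) (by rw [hc]; norm_num) hx Cfsg.Agent.H710.Spor.HNMix.orderOf_ψx,
    Cfsg.Agent.H704.Spor49.Harada.card_cent]

variable (tab : OrderTable.{u}) (known : Known.{u})

include tab known in
theorem row_of (h : Spor.IsoHN T) : Row T := by
  have hfin := finite h
  have hc := Cfsg.Agent.NotCT.Orders.hn h
  have e21 := exists_ord h ord_21
  have e22 := exists_ord h ord_22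
  have e25 := exists_ord h ord_25
  intro M hM
  left
  by_cases h7 : 7 ∣ Nat.card M
  swap
  · obtain ⟨w, hw⟩ := e21
    exact Two.of_not_dvd h7 (not_SC_of_orderOf (by norm_num) (y := w) (by rw [hw]; norm_num) (by rw [hw]; norm_num))
  by_cases h5 : 5 ∣ Nat.card M
  swap
  · obtain ⟨w, hw⟩ := e25
    exact Two.of_not_dvd h5 (not_SC_of_orderOf (by norm_num) (y := w) (by rw [hw]; norm_num) (by rw [hw]; norm_num))
  by_cases h11 : 11 ∣ Nat.card M
  swap
  · obtain ⟨w, hw⟩ := e22
    exact Two.of_not_dvd h11 (not_SC_of_orderOf (by norm_num) (y := w) (by rw [hw]; norm_num) (by rw [hw]; norm_num))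
  by_cases h19 : 19 ∣ Nat.card M
  · exfalso
    have S : Sit T 273030912000000 l 19 M := ⟨tab, known, hc, valid_l, by norm_num, by norm_num, h19, hM.1⟩
    obtain ⟨O, hO, N, hT⟩ := S.exists_top
    have hNn := hT.normal
    have hd7 := S.dvd_simple hT (s := 7) (by norm_num) (iso_19 h 7 (by norm_num) (by norm_num)) (by decide +kernel) h7
    have hd11 := S.dvd_simple hT (s := 11) (by norm_num) (iso_19 h 11 (by norm_num) (by norm_num)) (by decide +kernel)
      h11
    have hna := Cfsg.Agent.H257.El.Sit.not_comm_of_dvd hT (by norm_num) (by norm_num) hd7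
    obtain ⟨g, hg, hr, hgc⟩ := S.exists_surv hT hna [7, 11] (by simp [hd7, hd11])
    have hg' := mem_of_chkSurv (L := [.j1]) (by decide +kernel) hg
    rw [List.mem_singleton] at hg'
    subst hg'
    have hgc' : Nat.card N = 175560 := hgc
    have hi := S.index_dvd hT (iso_19 h) (by rw [hgc']; norm_num)
    rw [hgc'] at hi
    have h1 := (dvd_mul_left _ _).trans hi
    norm_num at h1
  · have no33 : ∀ z : T, orderOf z ≠ 11 * 3 := no_11 h (by norm_num) (by norm_num)
    have no55 : ∀ z : T, orderOf z ≠ 11 * 5 := no_11 h (by norm_num) (by norm_num)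
    have no77 : ∀ z : T, orderOf z ≠ 11 * 7 := no_11 h (by norm_num) (by norm_num)
    have S : Sit T 273030912000000 l 11 M := ⟨tab, known, hc, valid_l, by norm_num, by norm_num, h11, hM.1⟩
    obtain ⟨O, hO, N, hT⟩ := S.exists_top
    have hNn := hT.normal
    have hd7 := S.dvd_simple hT (s := 7) (by norm_num) no77 (by decide +kernel) h7
    have hna := Cfsg.Agent.H257.El.Sit.not_comm_of_dvd hT (by norm_num) (by norm_num) hd7
    have hNM : Nat.card N ∣ Nat.card M := (Subgroup.card_subgroup_dvd_card N).trans ⟨_, (card_quot_mul O).symm⟩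
    obtain ⟨g, hg, hr, hgc⟩ := S.exists_surv hT hna [7] (by simpa using hd7)
    have hg' := mem_of_chkSurv (L := [.alt 11, .alt 12, .m22, .j1, .mcl, .hs]) (by decide +kernel) hg
    have i3 : Nat.Coprime 3 N.index := (Nat.Prime.coprime_iff_not_dvd (by norm_num)).2
      (hT.not_dvd_index (by norm_num) (by norm_num) (Cfsg.Agent.H257.El.Sit.noR no33) (by norm_num))
    have i7 : Nat.Coprime 7 N.index := (Nat.Prime.coprime_iff_not_dvd (by norm_num)).2
      (hT.not_dvd_index (by norm_num) (by norm_num) (Cfsg.Agent.H257.El.Sit.noR no77) (by norm_num))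
    -- an element of order 21 is missing
    have key21 : ¬ 3 ∣ Nat.card O → ¬ 7 ∣ Nat.card O → (∀ w : N, orderOf w ≠ 21) → Two T M := by
      intro hO3 hO7 hno
      have c3 : Nat.Coprime 3 (Nat.card O) := (Nat.Prime.coprime_iff_not_dvd (by norm_num)).2 hO3
      have c7 : Nat.Coprime 7 (Nat.card O) := (Nat.Prime.coprime_iff_not_dvd (by norm_num)).2 hO7
      refine two_of_prime_order (v := 19) (b := 21) (by norm_num) (by rw [hc]; norm_num) h19 (by norm_num)
        e21 fun m hm hmo => ?_
      obtain ⟨w, hw⟩ := Sit.exists_of_coprime hm (O := O) (N := N)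
        (by rw [hmo, show 21 = 3 * 7 by norm_num]; exact c3.mul_left c7) hNn
        (by rw [hmo, show 21 = 3 * 7 by norm_num]; exact i3.mul_left i7)
      exact hno w (by rw [hw, hmo])
    -- an element of order 25 is missing
    have key25 : ∀ n : ℕ, 7 ≤ n → n < 25 → Nonempty (N ≃* alternatingGroup (Fin n)) → ¬ 5 ∣ Nat.card O → Two T M := by
      intro n hn7 hn ⟨e⟩ hO5
      have c5 : Nat.Coprime 5 (Nat.card O) := (Nat.Prime.coprime_iff_not_dvd (by norm_num)).2 hO5
      have hi := index_alt hT hna hn7 e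
      refine two_of_prime_order (v := 19) (b := 25) (by norm_num) (by rw [hc]; norm_num) h19 (by norm_num)
        e25 fun m hm hmo => ?_
      obtain ⟨w, hw⟩ := Sit.exists_of_coprime hm (O := O) (N := N)
        (by rw [hmo, show 25 = 5 * 5 by norm_num]; exact c5.mul_left c5) hNn
        (by rw [hmo]; exact Nat.Coprime.coprime_dvd_right hi (by norm_num))
      apply no_25 hn ((e w : alternatingGroup (Fin n)) : Equiv.Perm (Fin n))
      rw [Subgroup.orderOf_coe, MulEquiv.orderOf_eq, hw, hmo]
    simp only [List.mem_cons, List.not_mem_nil, or_false] at hg'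
    rcases hg' with rfl | rfl | rfl | rfl | rfl | rfl
    · -- `A11`
      have hgc' : Nat.card N = 19958400 := by rw [hgc]; decide +kernel
      exact key25 11 (by norm_num) (by norm_num) hr (S.not_dvd_core hT (s := 5) (m := 13680000) (k := 4) (by norm_num)
        (by norm_num) no55 (by rw [hgc']) (by norm_num) (by decide))
    · -- `A12`
      have hgc' : Nat.card N = 239500800 := by rw [hgc]; decide +kernel
      exact key25 12 (by norm_num) (by norm_num) hr (S.not_dvd_core hT (s := 5) (m := 1140000) (k := 4) (by norm_num)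
        (by norm_num) no55 (by rw [hgc']) (by norm_num) (by decide))
    · -- `M22`
      have hgc' : Nat.card N = 443520 := hgc
      exact key21
        (S.not_dvd_core hT (s := 3) (m := 615600000) (k := 4) (by norm_num) (by norm_num) no33 (by rw [hgc'])
          (by norm_num) (by decide))
        (S.not_dvd_core hT (s := 7) (m := 615600000) (k := 0) (by norm_num) (by norm_num) no77 (by rw [hgc'])
          (by norm_num) (by decide)) (no_21_m22 hr)
    · -- `J1`
      exfalso
      apply h19
      refine dvd_trans ?_ hNM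
      have hgc' : Nat.card N = 175560 := hgc
      rw [hgc']
      norm_num
    · -- `McL`
      have hgc' : Nat.card N = 898128000 := hgc
      exact key21
        (S.not_dvd_core hT (s := 3) (m := 304000) (k := 0) (by norm_num) (by norm_num) no33 (by rw [hgc'])
          (by norm_num) (by decide))
        (S.not_dvd_core hT (s := 7) (m := 304000) (k := 0) (by norm_num) (by norm_num) no77 (by rw [hgc'])
          (by norm_num) (by decide)) (McL.no_7 hr (k := 3) (by norm_num) (by norm_num))
    · -- `HS`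
      have hgc' : Nat.card N = 44352000 := hgc
      exact key21
        (S.not_dvd_core hT (s := 3) (m := 6156000) (k := 4) (by norm_num) (by norm_num) no33 (by rw [hgc'])
          (by norm_num) (by decide))
        (S.not_dvd_core hT (s := 7) (m := 6156000) (k := 0) (by norm_num) (by norm_num) no77 (by rw [hgc'])
          (by norm_num) (by decide)) (HS.iso_7 hr 3 (by norm_num) (by norm_num))

end HN

end Cfsg.Agent.H966.Der
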