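import Cfsg.Agent.H966.Der.Fac

/-!
# Derangements of sporadic groups (S3500, S3502): fixed points on the Sylow subgroups of the core (helper966)
-/

set_option autoImplicit false

namespace Cfsg.Agent.H966.Der

open Subgroup
open Cfsg.Agent.OrdDiv Cfsg.Agent.H257.El Cfsg.Agent.H439.Der Cfsg.Agent.H938.Sax

universe u

/-- the Sylow `s`-subgroup of a normal `q'`-subgroup: fixed points of an element of order `q` -/
theorem exists_fix {R : Type*} [Group R] [Finite R] {q s : ℕ} (hq : q.Prime) [hs : Fact s.Prime] (hd : q ∣ Nat.card R)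
    (O : Subgroup R) [O.Normal] (hqO : ¬ q ∣ Nat.card O) (S : Sylow s O) {c : ℕ}
    (hc : ∀ y : R, orderOf y = q → Nat.card (centralizer ({y} : Set R)) ∣ c) :
    ∃ d, d ∣ Nat.card S ∧ d ∣ c ∧ Nat.card S ≡ d [MOD q] := by
  have hq' : Fact q.Prime := ⟨hq⟩
  obtain ⟨y, hy, hyS⟩ := exists_normalizer hd O hqO S
  set P : Subgroup R := (S : Subgroup O).map O.subtype with hP
  have hPc : Nat.card P = Nat.card S := by
    rw [hP, Subgroup.card_map_of_injective O.subtype_injective]
  refine ⟨Nat.card ↥(P ⊓ centralizer ({y} : Set R)), ?_, ?_, ?_⟩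
  · rw [← hPc]
    exact Subgroup.card_dvd_of_le inf_le_left
  · exact (Subgroup.card_dvd_of_le inf_le_right).trans (hc y hy)
  · rw [← hPc]
    exact card_mod_of_normalizer hq hy hyS

/-- Frattini: the index divides the order of the normalizer -/
theorem index_dvd_normalizer {R : Type*} [Group R] [Finite R] {s : ℕ} [hs : Fact s.Prime] (O : Subgroup R) [O.Normal]
    (S : Sylow s O) : O.index ∣ Nat.card (normalizer (((S : Subgroup O).map O.subtype : Subgroup R) : Set R)) := by
  have hfr := Sylow.normalizer_sup_eq_top S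
  set R' : Subgroup R := (S : Subgroup O).map O.subtype with hR'
  have h3 : O.relIndex (normalizer (R' : Set R) ⊔ O) = O.relIndex (normalizer (R' : Set R)) :=
    Subgroup.relIndex_sup_right _ _
  rw [hfr, Subgroup.relIndex_top_right] at h3
  rw [h3]
  exact Subgroup.relIndex_dvd_card _ _

/-- the normalizer of a subgroup of order 2 -/
theorem normalizer_le_of_card_two {R : Type*} [Group R] {P : Subgroup R} (hP : Nat.card P = 2) :
    ∃ t : R, orderOf t = 2 ∧ normalizer (P : Set R) ≤ centralizer ({t} : Set R) := by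
  have h2 : Fact (Nat.Prime 2) := ⟨Nat.prime_two⟩
  have hf : Finite P := Nat.finite_of_card_ne_zero (by rw [hP]; norm_num)
  obtain ⟨t, ht⟩ := exists_prime_orderOf_dvd_card' (G := P) 2 (by rw [hP])
  have ht1 : t ≠ 1 := by
    rintro rfl
    rw [orderOf_one] at ht
    norm_num at ht
  obtain ⟨u, hu, huniq⟩ := (Nat.card_eq_two_iff' (1 : P)).1 hP
  have htu : t = u := huniq t ht1
  refine ⟨t, by rw [Subgroup.orderOf_coe, ht], fun w hw => ?_⟩
  have h3 : w * (t : R) * w⁻¹ ∈ P := ((mem_normalizer_iff.1 hw) t).1 t.2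
  have h4 : (⟨w * (t : R) * w⁻¹, h3⟩ : P) = u := by
    apply huniq
    intro h5
    have h6 : w * (t : R) * w⁻¹ = 1 := congrArg Subtype.val h5
    apply ht1
    apply Subtype.ext
    show (t : R) = 1
    have h7 : (t : R) = w⁻¹ * (w * (t : R) * w⁻¹) * w := by group
    rw [h7, h6]
    group
  have h5 : w * (t : R) * w⁻¹ = t := by
    rw [← htu] at h4
    exact congrArg Subtype.val h4
  rw [mem_centralizer_singleton_iff]
  calc w * (t : R) = (w * (t : R) * w⁻¹) * w := by group
    _ = (t : R) * w := by rw [h5]

/-- centralizers in a subgroup -/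
theorem cent_sub {T : Type*} [Group T] [Finite T] {M : Subgroup T} (y : M) : Nat.card (centralizer ({y} : Set M)) ∣
    Nat.card (centralizer ({(y : T)} : Set T)) := by
  rw [← card_map_of_injective (K := centralizer ({y} : Set M)) M.subtype_injective]
  apply card_dvd_of_le
  rintro _ ⟨w, hw, rfl⟩
  rw [mem_centralizer_singleton_iff]
  exact congrArg Subtype.val (mem_centralizer_singleton_iff.1 hw)

/-- centralizers and isomorphisms -/
theorem cent_map {G H : Type*} [Group G] [Group H] (e : G ≃* H) (x : G) :
    Nat.card (centralizer ({x} : Set G)) = Nat.card (centralizer ({e x} : Set H)) := by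
  refine Nat.card_congr ?_
  exact
    { toFun := fun w => ⟨e w, by
        have h3 := mem_centralizer_singleton_iff.1 w.2
        rw [mem_centralizer_singleton_iff, ← map_mul, ← map_mul, h3]⟩
      invFun := fun w => ⟨e.symm w, by
        have h3 := mem_centralizer_singleton_iff.1 w.2
        rw [mem_centralizer_singleton_iff]
        apply e.injective
        rw [map_mul, map_mul, e.apply_symm_apply, h3]⟩
      left_inv := fun w => Subtype.ext (e.symm_apply_apply _)
      right_inv := fun w => Subtype.ext (e.apply_symm_apply _) }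

/-- the order of a Sylow subgroup of the core -/
theorem sylow_core {O : Type*} [Group O] [Finite O] {s : ℕ} (hs : s.Prime) (hsO : s ∣ Nat.card O) (S : Sylow s O) :
    ∃ b, b ≠ 0 ∧ Nat.card S = s ^ b ∧ s ^ b ∣ Nat.card O := by
  have hs' : Fact s.Prime := ⟨hs⟩
  refine ⟨(Nat.card O).factorization s, ?_, S.card_eq_multiplicity, ?_⟩
  · have h4 : 1 ≤ (Nat.card O).factorization s :=
      (hs.pow_dvd_iff_le_factorization (k := 1) (n := Nat.card O) Nat.card_pos.ne').1 (by rwa [pow_one])
    omega
  · rw [← S.card_eq_multiplicity]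
    exact Subgroup.card_subgroup_dvd_card _

end Cfsg.Agent.H966.Der
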