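import Cfsg.Agent.H966.Der.HN
import Cfsg.Agent.H966.Der.Fix
import Cfsg.Agent.H439.Der.Three
import Cfsg.Agent.SigZeroHN.Main
import Cfsg.Agent.H729.PairMathieu

/-!
# Three classes of derangements (S3502): `HN` (helper966)
-/

set_option autoImplicit false

namespace Cfsg.Agent.H966.Der

open Subgroup Cfsg
open Cfsg.Agent.OrdDiv Cfsg.Agent.H257.El Cfsg.Agent.H439.Der Cfsg.Agent.H938.Sax

universe u

theorem iso_11_m22 {S : Type*} [Group S] (h : Spor.IsoM22 S) (p : ℕ) (hp : p.Prime) (hrp : 11 ≠ p) (z : S) :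
    orderOf z ≠ 11 * p := by
  obtain ⟨e⟩ := h
  have hle : Spor.M22 ≤ M24 := inf_le_left.trans inf_le_left
  rw [← MulEquiv.orderOf_eq e z, ← orderOf_injective _ (inclusion_injective hle)]
  have : Finite M24 := inferInstance
  exact no_of_cent (by norm_num) (fun x hx => Cfsg.Agent.H729.PairMathieu.card_cent_eleven hx) p hp hrp _

/-- `5` does not divide the index of `N`, `|N_N(P)| = 55` -/
theorem not_five_index {Q : Type*} [Group Q] [Finite Q] (N : Subgroup Q) [N.Normal] (hd : 11 ∣ Nat.card N)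
    (h2 : ¬ 11 ^ 2 ∣ Nat.card N) (hne : Nat.card N ≠ 11) (hmod : (Nat.card N / 11) % 11 = 5)
    (hiso : ∀ p : ℕ, p.Prime → 11 ≠ p → ∀ z : N, orderOf z ≠ 11 * p)
    (hno : ∀ z : Q, orderOf z ≠ 11 * 5) : ¬ 5 ∣ N.index := by
  have h11 : Fact (Nat.Prime 11) := ⟨by norm_num⟩
  obtain ⟨y, hy⟩ := exists_prime_orderOf_dvd_card' (G := N) 11 hd
  have hnm := (card_norm_mod (by norm_num) h2 hne (card_cent_of_noOrd (by norm_num) h2 hiso hy)).1
  rw [hmod] at hnm
  exact not_dvd_index_of (r := 11) (s := 5) (by norm_num) (by norm_num) (by norm_num) N hd h2 hno (by norm_num) hy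
    (by rw [hnm]; norm_num)

/-- no element of order 22 in `S_n`, `n ≤ 12` -/
theorem no_22 {n : ℕ} (hn : n ≤ 12) (σ : Equiv.Perm (Fin n)) : orderOf σ ≠ 22 := by
  intro h
  obtain ⟨c, hc, hd⟩ := exists_cycle σ (p := 2) (k := 1) (by norm_num) (by norm_num) (by rw [h]; norm_num)
  obtain ⟨d, hd', hdd⟩ := exists_cycle σ (p := 11) (k := 1) (by norm_num) (by norm_num) (by rw [h]; norm_num)
  have h1 := le_of_mem_cycleType hc
  have h1' := le_of_mem_cycleType hd'
  have h2 : 2 ≤ c := Equiv.Perm.two_le_of_mem_cycleType hc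
  have h2' : 2 ≤ d := Equiv.Perm.two_le_of_mem_cycleType hd'
  have hd11 : d = 11 := by
    obtain ⟨m, rfl⟩ := hdd
    have : m = 1 := by omega
    rw [this]; norm_num
  obtain ⟨s, hs'⟩ := Multiset.exists_cons_of_mem hd'
  have hcs : c ∈ s := by
    rw [hs', Multiset.mem_cons] at hc
    rcases hc with h3 | h3
    · rw [h3, hd11] at hd
      norm_num at hd
    · exact h3
  have hsum := Equiv.Perm.sum_cycleType σ
  have hle : σ.support.card ≤ 12 := by
    have h3 := Finset.card_le_univ σ.support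
    rw [Fintype.card_fin] at h3
    omega
  have h7 := Multiset.single_le_sum (fun _ _ => Nat.zero_le _) c hcs
  rw [hs', Multiset.sum_cons] at hsum
  omega

namespace HN

variable {T : Type u} [Group T]

theorem ord_14 : ∃ x : Spor.HN, orderOf x = 14 := by
  obtain ⟨x, K, hx, ⟨e⟩, hK, -⟩ := Cfsg.Agent.H845.HNSeven.hn_seven
  have h3 : Fact (Nat.Prime 2) := ⟨Nat.prime_two⟩
  obtain ⟨k, hk⟩ := exists_prime_orderOf_dvd_card' (G := alternatingGroup (Fin 5)) 2 (by
    have h1 : 2 * Nat.card (alternatingGroup (Fin 5)) = Nat.card (Equiv.Perm (Fin 5)) := by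
      rw [Nat.card_eq_fintype_card, Nat.card_eq_fintype_card]
      exact two_mul_card_alternatingGroup
    rw [Nat.card_perm, Nat.card_fin] at h1
    have h2 : Nat.factorial 5 = 120 := by decide
    omega)
  have hk' : orderOf ((e.symm k : K) : Spor.HN) = 2 := by rw [Subgroup.orderOf_coe, MulEquiv.orderOf_eq, hk]
  exact ⟨_, orderOf_mul_of_comm (r := 7) (s := 2) (by norm_num) (by norm_num) (by norm_num) hx hk'
    (hK _ (e.symm k).2).symm⟩

theorem ord_35 : ∃ x : Spor.HN, orderOf x = 35 := by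
  obtain ⟨x, K, hx, ⟨e⟩, hK, -⟩ := Cfsg.Agent.H845.HNSeven.hn_seven
  have h3 : Fact (Nat.Prime 5) := ⟨Nat.prime_five⟩
  obtain ⟨k, hk⟩ := exists_prime_orderOf_dvd_card' (G := alternatingGroup (Fin 5)) 5 (by
    have h1 : 2 * Nat.card (alternatingGroup (Fin 5)) = Nat.card (Equiv.Perm (Fin 5)) := by
      rw [Nat.card_eq_fintype_card, Nat.card_eq_fintype_card]
      exact two_mul_card_alternatingGroup
    rw [Nat.card_perm, Nat.card_fin] at h1
    have h2 : Nat.factorial 5 = 120 := by decide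
    omega)
  have hk' : orderOf ((e.symm k : K) : Spor.HN) = 5 := by rw [Subgroup.orderOf_coe, MulEquiv.orderOf_eq, hk]
  exact ⟨_, orderOf_mul_of_comm (r := 7) (s := 5) (by norm_num) (by norm_num) (by norm_num) hx hk'
    (hK _ (e.symm k).2).symm⟩

theorem card_cent_map {G H : Type*} [Group G] [Group H] (e : G ≃* H) (x : G) :
    Nat.card (centralizer ({x} : Set G)) = Nat.card (centralizer ({e x} : Set H)) := by
  refine Nat.card_congr ?_
  exact
    { toFun := fun w => ⟨e w, by
        have h3 := mem_centralizer_singleton_iff.1 w.2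
        rw [mem_centralizer_singleton_iff, ← map_mul, ← map_mul, h3]⟩
      invFun := fun w => ⟨e.symm w, by
        have h3 := mem_centralizer_singleton_iff.1 w.2
        rw [mem_centralizer_singleton_iff]
        apply e.injective
        rw [map_mul, map_mul, e.apply_symm_apply, h3]⟩
      left_inv := fun w => Subtype.ext (e.symm_apply_apply _)
      right_inv := fun w => Subtype.ext (e.apply_symm_apply _) }

theorem cent_7 (h : Spor.IsoHN T) {x : T} (hx : orderOf x = 7) : Nat.card (centralizer ({x} : Set T)) = 420 := by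
  have := Cfsg.Agent.H710.Spor.HN.finite_hn
  have hc := Cfsg.Agent.H710.Spor.HN.card_hn
  obtain ⟨e⟩ := h
  obtain ⟨y, K, hy, -, -, hyc⟩ := Cfsg.Agent.H845.HNSeven.hn_seven
  rw [card_cent_map e x, card_cent_eq (by norm_num) (by rw [hc]; norm_num) (x := e x) (by rw [MulEquiv.orderOf_eq, hx])
    hy, hyc]

theorem cent_11 (h : Spor.IsoHN T) {x : T} (hx : orderOf x = 11) : Nat.card (centralizer ({x} : Set T)) = 22 := by
  have := Cfsg.Agent.H710.Spor.HN.finite_hn
  have hc := Cfsg.Agent.H710.Spor.HN.card_hn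
  obtain ⟨e⟩ := h
  rw [card_cent_map e x, card_cent_eq (by norm_num) (by rw [hc]; norm_num) (x := e x) (by rw [MulEquiv.orderOf_eq, hx])
    Cfsg.Agent.H710.Spor.HNMix.orderOf_ψx, Cfsg.Agent.H704.Spor49.Harada.card_cent]

theorem cent_2 (h : Spor.IsoHN T) {x : T} (hx : orderOf x = 2) : Nat.card (centralizer ({x} : Set T)) = 177408000 ∨
    Nat.card (centralizer ({x} : Set T)) = 3686400 := by
  obtain ⟨e⟩ := h
  rw [card_cent_map e x]
  rcases Cfsg.Agent.SigZeroHN.card_centralizer_cases (u := e x) (by rw [MulEquiv.orderOf_eq, hx]) with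
    ⟨-, h1⟩ | ⟨-, h1⟩
  · exact Or.inl h1
  · exact Or.inr h1

/-- centralizers in a subgroup -/
theorem cent_sub [Finite T] {M : Subgroup T} (y : M) : Nat.card (centralizer ({y} : Set M)) ∣
    Nat.card (centralizer ({(y : T)} : Set T)) := by
  rw [← card_map_of_injective (K := centralizer ({y} : Set M)) M.subtype_injective]
  apply card_dvd_of_le
  rintro _ ⟨w, hw, rfl⟩
  rw [mem_centralizer_singleton_iff]
  exact congrArg Subtype.val (mem_centralizer_singleton_iff.1 hw)

/-- elements of order 22 are missing if the group at the top is alternating -/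
theorem no_22_of_alt [Finite T] (h : Spor.IsoHN T) {M : Subgroup T} {O : Subgroup M} [O.Normal] {N : Subgroup (M ⧸ O)}
    (hT : Top M 11 O N) (hna : ¬ ∀ a b : N, a * b = b * a) {n : ℕ} (hn : 7 ≤ n) (hn12 : n ≤ 12)
    (e : N ≃* alternatingGroup (Fin n)) (hO : ∀ b, 2 ^ b ∣ Nat.card O → b ≤ 7)
    (hN1 : ¬ Nat.card N ∣ 177408000) (hN2 : ¬ Nat.card N ∣ 3686400) : ∀ m ∈ M, orderOf m ≠ 22 := by
  intro m hm hmo
  have hNn := hT.normal
  have h2' : Fact (Nat.Prime 2) := ⟨Nat.prime_two⟩
  have h11' : Fact (Nat.Prime 11) := ⟨by norm_num⟩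
  by_cases h2 : 2 ∣ Nat.card O
  · obtain ⟨S⟩ : Nonempty (Sylow 2 O) := inferInstance
    obtain ⟨b, hb⟩ := IsPGroup.iff_card.1 S.isPGroup'
    have hb1 : b ≠ 0 := by
      rintro rfl
      rw [pow_zero] at hb
      have h3 := S.card_eq_multiplicity
      rw [hb] at h3
      have h4 : 1 ≤ (Nat.card O).factorization 2 :=
        (Nat.prime_two.pow_dvd_iff_le_factorization (k := 1) (n := Nat.card O) Nat.card_pos.ne').1 (by rwa [pow_one])
      have h5 := Nat.one_lt_pow (n := (Nat.card O).factorization 2) (by omega) Nat.prime_two.one_lt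
      omega
    have hb7 : b ≤ 7 := hO b (by rw [← hb]; exact Subgroup.card_subgroup_dvd_card _)
    obtain ⟨d, hd1, hd2, hd3⟩ := exists_fix (q := 11) (by norm_num) hT.dvdR O hT.core S (c := 22) (fun y hy => by
      have h3 := cent_sub y
      rwa [cent_11 h (x := (y : T)) (by rw [Subgroup.orderOf_coe, hy])] at h3)
    rw [hb] at hd1 hd3
    obtain ⟨j, -, hj⟩ := (Nat.dvd_prime_pow Nat.prime_two).1 hd1
    have hj1 : j ≤ 1 := by
      by_contra hj2
      have h3 := (pow_dvd_pow 2 (show 2 ≤ j by omega)).trans (hj ▸ hd2)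
      norm_num at h3
    have hbe : b = 1 := by
      subst hj
      unfold Nat.ModEq at hd3
      interval_cases j <;> interval_cases b <;> first | rfl | omega
    rw [hbe, pow_one] at hb
    have hPc : Nat.card ((S : Subgroup O).map O.subtype) = 2 := by
      rw [Subgroup.card_map_of_injective O.subtype_injective, hb]
    obtain ⟨t, ht, hle⟩ := normalizer_le_of_card_two hPc
    have h3 := (index_dvd_normalizer O S).trans ((card_dvd_of_le hle).trans (cent_sub t))
    have h4 : Nat.card N ∣ O.index := Subgroup.card_subgroup_dvd_card N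
    have h5 := h4.trans h3
    rcases cent_2 h (x := (t : T)) (by rw [Subgroup.orderOf_coe, ht]) with h6 | h6
    · rw [h6] at h5
      exact hN1 h5
    · rw [h6] at h5
      exact hN2 h5
  · have hO11 : ¬ 11 ∣ Nat.card O := hT.core
    have c2 : Nat.Coprime 2 (Nat.card O) := (Nat.Prime.coprime_iff_not_dvd (by norm_num)).2 h2
    have c11 : Nat.Coprime 11 (Nat.card O) := (Nat.Prime.coprime_iff_not_dvd (by norm_num)).2 hO11
    have h3 : orderOf (⟨m, hm⟩ : M) = 22 := by rw [Subgroup.orderOf_mk, hmo]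
    have h4 := orderOf_mk_of_coprime O (z := (⟨m, hm⟩ : M)) (by
      rw [h3, show 22 = 2 * 11 by norm_num]
      exact c2.mul_left c11)
    rw [h3] at h4
    by_cases hNt : N = ⊤
    · have h5 : QuotientGroup.mk' O (⟨m, hm⟩ : M) ∈ N := by rw [hNt]; trivial
      apply no_22 hn12 ((e ⟨_, h5⟩ : alternatingGroup (Fin n)) : Equiv.Perm (Fin n))
      rw [Subgroup.orderOf_coe, MulEquiv.orderOf_eq, Subgroup.orderOf_mk, h4]
    · obtain ⟨f⟩ := Cfsg.Agent.H686.TZ.equiv_perm (n := n) hn N e (centralizer_top hT hna) hNt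
      apply no_22 hn12 (f (QuotientGroup.mk' O (⟨m, hm⟩ : M)))
      rw [MulEquiv.orderOf_eq, h4]

/-- `5 ∤ |O|` if `|O|₅ ≤ 5 ^ 5` -/
theorem not_five_core [Finite T] (h : Spor.IsoHN T) {M : Subgroup T} {O : Subgroup M} [O.Normal] {N : Subgroup (M ⧸ O)}
    (hT : Top M 11 O N) (h7 : 7 ∣ Nat.card M) (hO7 : ¬ 7 ∣ Nat.card O) (hO : ∀ b, 5 ^ b ∣ Nat.card O → b ≤ 5) :
    ¬ 5 ∣ Nat.card O := by
  intro h5
  have h5' : Fact (Nat.Prime 5) := ⟨Nat.prime_five⟩
  obtain ⟨S⟩ : Nonempty (Sylow 5 O) := inferInstance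
  obtain ⟨b, hb⟩ := IsPGroup.iff_card.1 S.isPGroup'
  have hb1 : b ≠ 0 := by
    rintro rfl
    rw [pow_zero] at hb
    have h3 := S.card_eq_multiplicity
    rw [hb] at h3
    have h4 : 1 ≤ (Nat.card O).factorization 5 :=
      (Nat.prime_five.pow_dvd_iff_le_factorization (k := 1) (n := Nat.card O) Nat.card_pos.ne').1 (by rwa [pow_one])
    have h6 := Nat.one_lt_pow (n := (Nat.card O).factorization 5) (by omega) Nat.prime_five.one_lt
    omega
  have hb5 : b ≤ 5 := hO b (by rw [← hb]; exact Subgroup.card_subgroup_dvd_card _)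
  obtain ⟨d, hd1, hd2, hd3⟩ := exists_fix (q := 11) (by norm_num) hT.dvdR O hT.core S (c := 22) (fun y hy => by
    have h3 := cent_sub y
    rwa [cent_11 h (x := (y : T)) (by rw [Subgroup.orderOf_coe, hy])] at h3)
  obtain ⟨e, he1, he2, he3⟩ := exists_fix (q := 7) (by norm_num) h7 O hO7 S (c := 420) (fun y hy => by
    have h3 := cent_sub y
    rwa [cent_7 h (x := (y : T)) (by rw [Subgroup.orderOf_coe, hy])] at h3)
  rw [hb] at hd1 hd3 he1 he3
  obtain ⟨j, -, hj⟩ := (Nat.dvd_prime_pow Nat.prime_five).1 hd1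
  obtain ⟨k, -, hk⟩ := (Nat.dvd_prime_pow Nat.prime_five).1 he1
  have hj0 : j = 0 := by
    by_contra hj2
    have h3 := (pow_dvd_pow 5 (show 1 ≤ j by omega)).trans (hj ▸ hd2)
    norm_num at h3
  have hk1 : k ≤ 1 := by
    by_contra hj2
    have h3 := (pow_dvd_pow 5 (show 2 ≤ k by omega)).trans (hk ▸ he2)
    norm_num at h3
  subst hj hk hj0
  unfold Nat.ModEq at hd3 he3
  interval_cases k <;> interval_cases b <;> omega

variable (tab : OrderTable.{u}) (known : Known.{u})

include tab known in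
theorem three_of (h : Spor.IsoHN T) {M : Subgroup T} (hM : M ≠ ⊤) : Three T M := by
  have hfin := finite h
  have hc := Cfsg.Agent.NotCT.Orders.hn h
  obtain ⟨x14, e14⟩ := exists_ord h ord_14
  obtain ⟨x21, e21⟩ := exists_ord h ord_21
  obtain ⟨x22, e22⟩ := exists_ord h ord_22
  obtain ⟨x25, e25⟩ := exists_ord h ord_25
  obtain ⟨x35, e35⟩ := exists_ord h ord_35
  have h19' : Fact (Nat.Prime 19) := ⟨by norm_num⟩
  obtain ⟨x19, e19⟩ := exists_prime_orderOf_dvd_card' (G := T) 19 (by rw [hc]; norm_num)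
  by_cases h7 : 7 ∣ Nat.card M
  swap
  · exact Three.of_not_dvd h7 (not_SCC_of_orders (x := x14) (y := x21) (z := x35) (by rw [e14]; norm_num)
      (by rw [e21]; norm_num) (by rw [e35]; norm_num) (by rw [e14, e21]; norm_num) (by rw [e14, e35]; norm_num)
      (by rw [e21, e35]; norm_num)) ⟨x14, by rw [e14]; norm_num⟩
  by_cases h5 : 5 ∣ Nat.card M
  swap
  · have e5 : orderOf (x25 ^ 5) = 5 := by rw [orderOf_pow_of_dvd (by norm_num) (by rw [e25]; norm_num), e25]
    exact Three.of_not_dvd h5 (not_SCC_of_orders (x := x25 ^ 5) (y := x25) (z := x35) (by rw [e5])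
      (by rw [e25]; norm_num) (by rw [e35]; norm_num) (by rw [e5, e25]; norm_num) (by rw [e5, e35]; norm_num)
      (by rw [e25, e35]; norm_num)) ⟨x25, by rw [e25]; norm_num⟩
  by_cases h19 : 19 ∣ Nat.card M
  · exfalso
    have S : Sit T 273030912000000 l 19 M := ⟨tab, known, hc, valid_l, by norm_num, by norm_num, h19, hM⟩
    obtain ⟨O, hO, N, hT⟩ := S.exists_top
    have hNn := hT.normal
    have hd7 := S.dvd_simple hT (s := 7) (by norm_num) (iso_19 h 7 (by norm_num) (by norm_num)) (by decide +kernel) h7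
    have hd5 := S.dvd_simple hT (s := 5) (by norm_num) (iso_19 h 5 (by norm_num) (by norm_num)) (by decide +kernel) h5
    have hna := Cfsg.Agent.H257.El.Sit.not_comm_of_dvd hT (by norm_num) (by norm_num) hd7
    obtain ⟨g, hg, hr, hgc⟩ := S.exists_surv hT hna [7, 5] (by simp [hd7, hd5])
    have hg' := mem_of_chkSurv (L := [.j1]) (by decide +kernel) hg
    rw [List.mem_singleton] at hg'
    subst hg'
    have hgc' : Nat.card N = 175560 := hgc
    have hi := S.index_dvd hT (iso_19 h) (by rw [hgc']; norm_num)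
    rw [hgc'] at hi
    have h1 := (dvd_mul_left _ _).trans hi
    norm_num at h1
  by_cases h11 : 11 ∣ Nat.card M
  swap
  · exact Three.of_two_primes (v := 11) (w := 19) (by norm_num) (by norm_num) (by norm_num) (by rw [hc]; norm_num) h11 h19
      (not_SC_of_orderOf (by norm_num) (y := x22) (by rw [e22]; norm_num) (by rw [e22]; norm_num))
  have k19 : ∀ m ∈ M, orderOf m ≠ 19 := fun m hm hmo => h19 (by
    rw [← hmo]
    exact Subgroup.orderOf_dvd_natCard _ hm)
  have no33 : ∀ z : T, orderOf z ≠ 11 * 3 := no_11 h (by norm_num) (by norm_num)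
  have no55 : ∀ z : T, orderOf z ≠ 11 * 5 := no_11 h (by norm_num) (by norm_num)
  have no77 : ∀ z : T, orderOf z ≠ 11 * 7 := no_11 h (by norm_num) (by norm_num)
  have S : Sit T 273030912000000 l 11 M := ⟨tab, known, hc, valid_l, by norm_num, by norm_num, h11, hM⟩
  obtain ⟨O, hO, N, hT⟩ := S.exists_top
  have hNn := hT.normal
  have hd7 := S.dvd_simple hT (s := 7) (by norm_num) no77 (by decide +kernel) h7
  have hna := Cfsg.Agent.H257.El.Sit.not_comm_of_dvd hT (by norm_num) (by norm_num) hd7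
  have hNM : Nat.card N ∣ Nat.card M := (Subgroup.card_subgroup_dvd_card N).trans ⟨_, (card_quot_mul O).symm⟩
  have hN2 : ¬ 11 ^ 2 ∣ Nat.card N := fun h1 => S.sqM (h1.trans hNM)
  obtain ⟨g, hg, hr, hgc⟩ := S.exists_surv hT hna [7] (by simpa using hd7)
  have hg' := mem_of_chkSurv (L := [.alt 11, .alt 12, .m22, .j1, .mcl, .hs]) (by decide +kernel) hg
  have i3 : Nat.Coprime 3 N.index := (Nat.Prime.coprime_iff_not_dvd (by norm_num)).2
    (hT.not_dvd_index (by norm_num) (by norm_num) (Cfsg.Agent.H257.El.Sit.noR no33) (by norm_num))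
  have i7 : Nat.Coprime 7 N.index := (Nat.Prime.coprime_iff_not_dvd (by norm_num)).2
    (hT.not_dvd_index (by norm_num) (by norm_num) (Cfsg.Agent.H257.El.Sit.noR no77) (by norm_num))
  -- elements of orders 19, 21 and 35 are missing
  have key : ¬ 3 ∣ Nat.card O → ¬ 7 ∣ Nat.card O → ¬ 5 ∣ Nat.card O → (Nat.card N / 11) % 11 = 5 → Nat.card N ≠ 11 →
      (∀ p : ℕ, p.Prime → 11 ≠ p → ∀ z : N, orderOf z ≠ 11 * p) →
      (∀ w : N, orderOf w ≠ 21) → (∀ w : N, orderOf w ≠ 35) → Three T M := by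
    intro hO3 hO7 hO5 hmod hne hiso hno hno'
    have c3 : Nat.Coprime 3 (Nat.card O) := (Nat.Prime.coprime_iff_not_dvd (by norm_num)).2 hO3
    have c5 : Nat.Coprime 5 (Nat.card O) := (Nat.Prime.coprime_iff_not_dvd (by norm_num)).2 hO5
    have c7 : Nat.Coprime 7 (Nat.card O) := (Nat.Prime.coprime_iff_not_dvd (by norm_num)).2 hO7
    have i5 : Nat.Coprime 5 N.index := (Nat.Prime.coprime_iff_not_dvd (by norm_num)).2
      (not_five_index N hT.dvd hN2 hne hmod hiso (Top.noQuot O (Cfsg.Agent.H257.El.Sit.noR no55)))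
    refine Three.of_orders (a := 19) (b := 21) (c := 35) (by norm_num) (by norm_num) (by norm_num) e19 e21 e35 k19 ?_ ?_
    · intro m hm hmo
      obtain ⟨w, hw⟩ := Sit.exists_of_coprime hm (O := O) (N := N)
        (by rw [hmo, show 21 = 3 * 7 by norm_num]; exact c3.mul_left c7) hNn
        (by rw [hmo, show 21 = 3 * 7 by norm_num]; exact i3.mul_left i7)
      exact hno w (by rw [hw, hmo])
    · intro m hm hmo
      obtain ⟨w, hw⟩ := Sit.exists_of_coprime hm (O := O) (N := N)
        (by rw [hmo, show 35 = 5 * 7 by norm_num]; exact c5.mul_left c7) hNn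
        (by rw [hmo, show 35 = 5 * 7 by norm_num]; exact i5.mul_left i7)
      exact hno' w (by rw [hw, hmo])
  -- elements of orders 19, 22 and 25 are missing
  have key25 : ∀ n : ℕ, 7 ≤ n → n ≤ 12 → Nonempty (N ≃* alternatingGroup (Fin n)) → ¬ 5 ∣ Nat.card O →
      (∀ b, 2 ^ b ∣ Nat.card O → b ≤ 7) → ¬ Nat.card N ∣ 177408000 → ¬ Nat.card N ∣ 3686400 → Three T M := by
    intro n hn7 hn ⟨e⟩ hO5 hO2 hN1 hN2
    have c5 : Nat.Coprime 5 (Nat.card O) := (Nat.Prime.coprime_iff_not_dvd (by norm_num)).2 hO5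
    have hi := index_alt hT hna hn7 e
    refine Three.of_orders (a := 19) (b := 22) (c := 25) (by norm_num) (by norm_num) (by norm_num) e19 e22 e25 k19
      (no_22_of_alt h hT hna hn7 hn e hO2 hN1 hN2) ?_
    intro m hm hmo
    obtain ⟨w, hw⟩ := Sit.exists_of_coprime hm (O := O) (N := N)
      (by rw [hmo, show 25 = 5 * 5 by norm_num]; exact c5.mul_left c5) hNn
      (by rw [hmo]; exact Nat.Coprime.coprime_dvd_right hi (by norm_num))
    apply no_25 (by omega : n < 25) ((e w : alternatingGroup (Fin n)) : Equiv.Perm (Fin n))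
    rw [Subgroup.orderOf_coe, MulEquiv.orderOf_eq, hw, hmo]
  simp only [List.mem_cons, List.not_mem_nil, or_false] at hg'
  rcases hg' with rfl | rfl | rfl | rfl | rfl | rfl
  · -- `A11`
    have hgc' : Nat.card N = 19958400 := by rw [hgc]; decide +kernel
    have hOd : Nat.card O ∣ 13680000 := S.core_dvd (N := N) (by rw [hgc'])
    refine key25 11 (by norm_num) (by norm_num) hr (S.not_dvd_core hT (s := 5) (m := 13680000) (k := 4) (by norm_num)
      (by norm_num) no55 (by rw [hgc']) (by norm_num) (by decide)) (fun b hb => ?_) (by rw [hgc']; norm_num)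
      (by rw [hgc']; norm_num)
    by_contra hb7
    have h1 := (pow_dvd_pow 2 (show 8 ≤ b by omega)).trans (hb.trans hOd)
    norm_num at h1
  · -- `A12`
    have hgc' : Nat.card N = 239500800 := by rw [hgc]; decide +kernel
    have hOd : Nat.card O ∣ 1140000 := S.core_dvd (N := N) (by rw [hgc'])
    refine key25 12 (by norm_num) (by norm_num) hr (S.not_dvd_core hT (s := 5) (m := 1140000) (k := 4) (by norm_num)
      (by norm_num) no55 (by rw [hgc']) (by norm_num) (by decide)) (fun b hb => ?_) (by rw [hgc']; norm_num)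
      (by rw [hgc']; norm_num)
    by_contra hb7
    have h1 := (pow_dvd_pow 2 (show 8 ≤ b by omega)).trans (hb.trans hOd)
    norm_num at h1
  · -- `M22`
    have hgc' : Nat.card N = 443520 := hgc
    have hOd : Nat.card O ∣ 615600000 := S.core_dvd (N := N) (by rw [hgc'])
    have hO7 : ¬ 7 ∣ Nat.card O := S.not_dvd_core hT (s := 7) (m := 615600000) (k := 0) (by norm_num) (by norm_num) no77
      (by rw [hgc']) (by norm_num) (by decide)
    exact key
      (S.not_dvd_core hT (s := 3) (m := 615600000) (k := 4) (by norm_num) (by norm_num) no33 (by rw [hgc'])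
        (by norm_num) (by decide)) hO7
      (not_five_core h hT h7 hO7 fun b hb => by
        by_contra hb7
        have h1 := (pow_dvd_pow 5 (show 6 ≤ b by omega)).trans (hb.trans hOd)
        norm_num at h1)
      (by rw [hgc']) (by rw [hgc']; norm_num) (iso_11_m22 hr) (no_21_m22 hr)
      (no_m22 hr (k := 7) (by norm_num))
  · -- `J1`
    exfalso
    apply h19
    refine dvd_trans ?_ hNM
    have hgc' : Nat.card N = 175560 := hgc
    rw [hgc']
    norm_num
  · -- `McL`
    have hgc' : Nat.card N = 898128000 := hgc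
    exact key
      (S.not_dvd_core hT (s := 3) (m := 304000) (k := 0) (by norm_num) (by norm_num) no33 (by rw [hgc'])
        (by norm_num) (by decide))
      (S.not_dvd_core hT (s := 7) (m := 304000) (k := 0) (by norm_num) (by norm_num) no77 (by rw [hgc'])
        (by norm_num) (by decide))
      (S.not_dvd_core hT (s := 5) (m := 304000) (k := 3) (by norm_num) (by norm_num) no55 (by rw [hgc'])
        (by norm_num) (by decide))
      (by rw [hgc']) (by rw [hgc']; norm_num) (McL.iso_11 hr) (McL.no_7 hr (k := 3) (by norm_num) (by norm_num))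
      (McL.no_7 hr (k := 5) (by norm_num) (by norm_num))
  · -- `HS`
    have hgc' : Nat.card N = 44352000 := hgc
    exact key
      (S.not_dvd_core hT (s := 3) (m := 6156000) (k := 4) (by norm_num) (by norm_num) no33 (by rw [hgc'])
        (by norm_num) (by decide))
      (S.not_dvd_core hT (s := 7) (m := 6156000) (k := 0) (by norm_num) (by norm_num) no77 (by rw [hgc'])
        (by norm_num) (by decide))
      (S.not_dvd_core hT (s := 5) (m := 6156000) (k := 3) (by norm_num) (by norm_num) no55 (by rw [hgc'])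
        (by norm_num) (by decide))
      (by rw [hgc']) (by rw [hgc']; norm_num) (HS.iso_11 hr) (HS.iso_7 hr 3 (by norm_num) (by norm_num))
      (HS.iso_7 hr 5 (by norm_num) (by norm_num))

include tab known in
/-- **RowS for HN** -/
theorem rowS_of (h : Spor.IsoHN T) : RowS T := by
  have := finite h
  exact RowS.of_three fun M hM => three_of tab known h hM.1

end HN

end Cfsg.Agent.H966.Der
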