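import Cfsg.Agent.H966.Der.HS
import Cfsg.Agent.H153.ZerosSuz
import Cfsg.Agent.H153.ZerosSuzOrd
import Cfsg.Agent.H348.PPD.RowSuz
import Cfsg.Agent.H805.NilSuz
import Cfsg.Agent.H812.SuzSeven
import Cfsg.Agent.H686.Four.GTwoSeven
import Cfsg.Agent.H686.TZ.Alt
import Cfsg.Agent.NotCT.Orders

/-!
# One class of derangements (S3500): `Suz` (helper966)
-/

set_option autoImplicit false

namespace Cfsg.Agent.H966.Der

open Subgroup Cfsg
open Cfsg.Agent.OrdDiv Cfsg.Agent.H257.El Cfsg.Agent.H439.Der Cfsg.Agent.H938.Sax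

universe u

/-- an element of `M` of order prime to `|O|`, and the index of `N` -/
theorem Sit.exists_pow_index {T : Type u} [Group T] [Finite T] {M : Subgroup T} {O : Subgroup M} [O.Normal]
    {N : Subgroup (M ⧸ O)} {z : T} (hz : z ∈ M) (h1 : Nat.Coprime (orderOf z) (Nat.card O)) (hN : N.Normal) :
    ∃ w : N, orderOf w = orderOf z / Nat.gcd (orderOf z) N.index := by
  have h3 : orderOf (⟨z, hz⟩ : M) = orderOf z := Subgroup.orderOf_mk z hz
  have h4 := orderOf_mk_of_coprime O (z := (⟨z, hz⟩ : M)) (by rw [h3]; exact h1)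
  have h5 : (QuotientGroup.mk' O (⟨z, hz⟩ : M)) ^ N.index ∈ N := Subgroup.pow_index_mem N _
  refine ⟨⟨_, h5⟩, ?_⟩
  rw [Subgroup.orderOf_mk, orderOf_pow, h4, h3]

theorem no_14_g24 (tab : OrderTable.{u}) {S : Type*} [Group S] (h : Real (.g2 4) S) (z : S) : orderOf z ≠ 14 := by
  obtain ⟨F, _, _, hF, ⟨e⟩⟩ := h
  intro hz
  have hc : Nat.card ↥(Lie.chevG2.group F) = 251596800 := by
    rw [tab.g2 F, hF]; norm_num
  have : Finite ↥(Lie.chevG2.group F) := Nat.finite_of_card_ne_zero (by rw [hc]; norm_num)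
  have h1 := dvd_cent (G := ↥(Lie.chevG2.group F)) (p := 7) (c := 21) (k := 2) (by norm_num) (by rw [hc]; norm_num)
    (Cfsg.Agent.H686.Four.GTwoSeven.exists_seven hF) (z := e z) (by norm_num) (by rw [MulEquiv.orderOf_eq, hz])
  norm_num at h1

namespace Suz

def l : List (ℕ × ℕ) := [(2, 13), (3, 7), (5, 2), (7, 1), (11, 1), (13, 1)]

theorem valid_l : valid l 448345497600 = true := by decide +kernel

variable {T : Type u} [Group T]

theorem finite (h : Spor.IsoSuz T) : Finite T :=
  Nat.finite_of_card_ne_zero (by rw [Cfsg.Agent.NotCT.Orders.suz h]; norm_num)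

theorem exists_ord (h : Spor.IsoSuz T) {m : ℕ} (hm : ∃ x : Spor.Suz, orderOf x = m) : ∃ x : T, orderOf x = m := by
  obtain ⟨e⟩ := h
  obtain ⟨x, hx⟩ := hm
  exact ⟨e.symm x, by rw [MulEquiv.orderOf_eq, hx]⟩

theorem iso_13 (h : Spor.IsoSuz T) (p : ℕ) (hp : p.Prime) (hrp : 13 ≠ p) (z : T) : orderOf z ≠ 13 * p := by
  have := finite ⟨MulEquiv.refl Spor.Suz⟩
  obtain ⟨e⟩ := h
  rw [← MulEquiv.orderOf_eq e z]
  exact no_of_cent (by norm_num) (fun x hx => Cfsg.Agent.H153.Zeros.card_cent_suz hx) p hp hrp (e z)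

theorem iso_11 (h : Spor.IsoSuz T) (p : ℕ) (hp : p.Prime) (hrp : 11 ≠ p) (z : T) : orderOf z ≠ 11 * p := by
  have := finite ⟨MulEquiv.refl Spor.Suz⟩
  have hc := Cfsg.Agent.NotCT.Orders.suz (K := Spor.Suz) ⟨MulEquiv.refl _⟩
  obtain ⟨e⟩ := h
  rw [← MulEquiv.orderOf_eq e z]
  refine no_of_cent (by norm_num) (fun x hx => ?_) p hp hrp (e z)
  obtain ⟨y, hy, hyc⟩ := Cfsg.Agent.H348.PPD.RowSuz.cent11
  rw [← hyc]
  exact card_cent_eq (by norm_num) (by rw [hc]; norm_num) hx hy

theorem no_7 (h : Spor.IsoSuz T) {k : ℕ} (hk : k ≠ 0) (hc : ¬ 7 * k ∣ 84) (z : T) : orderOf z ≠ 7 * k := by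
  have := finite ⟨MulEquiv.refl Spor.Suz⟩
  obtain ⟨e⟩ := h
  rw [← MulEquiv.orderOf_eq e z]
  exact no_of_cent' (c := 84) (fun x hx => by rw [Cfsg.Agent.H805.NilSp.cent_seven_Suz hx]) hk hc (e z)

theorem no_28 (h : Spor.IsoSuz T) (z : T) : orderOf z ≠ 28 := by
  have hfin := finite h
  have hc := Cfsg.Agent.NotCT.Orders.suz h
  have h7 : Fact (Nat.Prime 7) := ⟨by norm_num⟩
  intro hz
  have h1 : orderOf (z ^ 4) = 7 := by rw [orderOf_pow_of_dvd (by norm_num) (by rw [hz]; norm_num), hz]
  have hp : IsPGroup 7 (zpowers (z ^ 4)) := IsPGroup.of_card (n := 1) (by rw [Nat.card_zpowers, h1, pow_one])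
  obtain ⟨B, hB⟩ := hp.exists_le_sylow
  have hBc : Nat.card B = 7 := by
    have h5 := Top.card_sylow_of B (a := 1) (by rw [hc]; norm_num) (by rw [hc]; norm_num)
    rwa [pow_one] at h5
  have hBe : zpowers (z ^ 4) = B := by
    apply Subgroup.eq_of_le_of_card_ge hB
    rw [hBc, Nat.card_zpowers, h1]
  obtain ⟨⟨f⟩, -⟩ := Cfsg.Agent.H812.SuzSeven.main h B
  have hzC : z ∈ centralizer ((B : Subgroup T) : Set T) := by
    rw [← hBe, zpowers_eq_closure, centralizer_closure, mem_centralizer_singleton_iff]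
    exact ((Commute.refl z).pow_right 4).eq
  have h2 : (f ⟨z, hzC⟩) ^ 42 = 1 := by
    apply Prod.ext
    · have h3 : (f ⟨z, hzC⟩).1 ^ 7 = 1 := by
        have h4 := pow_card_eq_one' (x := (f ⟨z, hzC⟩).1)
        rwa [show Nat.card (Multiplicative (ZMod 7)) = 7 by simp] at h4
      show (f ⟨z, hzC⟩).1 ^ 42 = 1
      rw [show 42 = 7 * 6 by norm_num, pow_mul, h3, one_pow]
    · have h3 : ∀ a : alternatingGroup (Fin 4), a ^ 6 = 1 := by decide +kernel
      show (f ⟨z, hzC⟩).2 ^ 42 = 1
      rw [show 42 = 6 * 7 by norm_num, pow_mul, h3, one_pow]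
  have h5 := orderOf_dvd_of_pow_eq_one h2
  rw [MulEquiv.orderOf_eq, Subgroup.orderOf_mk, hz] at h5
  norm_num at h5

variable (tab : OrderTable.{u}) (known : Known.{u})

include tab known in
theorem row_of (h : Spor.IsoSuz T) : Row T := by
  have hfin := finite h
  have hc := Cfsg.Agent.NotCT.Orders.suz h
  have h5' : Fact (Nat.Prime 5) := ⟨by norm_num⟩
  have no35 : ∀ z : T, orderOf z ≠ 35 := no_7 h (k := 5) (by norm_num) (by norm_num)
  have e10 := exists_ord h Cfsg.Agent.H153.Zeros.ord_suz_10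
  have e14 := exists_ord h Cfsg.Agent.H153.Zeros.ord_suz_14
  have e20 := exists_ord h Cfsg.Agent.H153.Zeros.ord_suz_20
  have e24 := exists_ord h Cfsg.Agent.H153.Zeros.ord_suz_24
  intro M hM
  left
  by_cases h7 : 7 ∣ Nat.card M
  swap
  · obtain ⟨w, hw⟩ := e14
    exact Two.of_not_dvd h7 (not_SC_of_orderOf (by norm_num) (y := w) (by rw [hw]; norm_num) (by rw [hw]; norm_num))
  by_cases h5 : 5 ∣ Nat.card M
  swap
  · obtain ⟨w, hw⟩ := e10
    exact Two.of_not_dvd h5 (not_SC_of_orderOf (by norm_num) (y := w) (by rw [hw]; norm_num) (by rw [hw]; norm_num))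
  by_cases h13 : 13 ∣ Nat.card M
  · have S : Sit T 448345497600 l 13 M := ⟨tab, known, hc, valid_l, by norm_num, by norm_num, h13, hM.1⟩
    obtain ⟨O, hO, N, hT⟩ := S.exists_top
    have hNn := hT.normal
    have hd7 := S.dvd_simple hT (s := 7) (by norm_num) (iso_13 h 7 (by norm_num) (by norm_num)) (by decide +kernel) h7
    have hd5 := S.dvd_simple hT (s := 5) (by norm_num) (iso_13 h 5 (by norm_num) (by norm_num)) (by decide +kernel) h5
    have hna := Cfsg.Agent.H257.El.Sit.not_comm_of_dvd hT (by norm_num) (by norm_num) hd7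
    obtain ⟨g, hg, hr, hgc⟩ := S.exists_surv hT hna [7, 5] (by simp [hd7, hd5])
    have hg' := mem_of_chkSurv (L := [.alt 13, .psl 2 64, .psl 3 9, .g2 4, .sz 8]) (by decide +kernel) hg
    have hne : Nat.card N ≠ 13 := by
      intro h1
      rw [h1] at hd7
      norm_num at hd7
    have hi := S.index_dvd hT (iso_13 h) hne
    simp only [List.mem_cons, List.not_mem_nil, or_false] at hg'
    rcases hg' with rfl | rfl | rfl | rfl | rfl
    · -- `A13`
      exfalso
      obtain ⟨e⟩ := hr
      obtain ⟨σ, hσ⟩ := exists_35_13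
      obtain ⟨z, hz⟩ := Cfsg.Agent.H257.El.Sit.exists_orderOf (N := N) (k := 35)
        ⟨e.symm σ, by rw [MulEquiv.orderOf_eq, hσ]⟩
      exact no35 z hz
    · exfalso
      have hgc' : Nat.card N = 262080 := by rw [hgc]; decide +kernel
      rw [hgc'] at hi
      have h1 := (dvd_mul_left _ _).trans hi
      norm_num at h1
    · exfalso
      have hgc' : Nat.card N = 42456960 := by rw [hgc]; decide +kernel
      rw [hgc'] at hi
      have h1 := (dvd_mul_left _ _).trans hi
      norm_num at h1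
    · -- `G2(4)`
      have hgc' : Nat.card N = 251596800 := by rw [hgc]; decide +kernel
      rw [hgc'] at hi
      norm_num at hi
      have hi := eq_one_of_mul_dvd (by norm_num) hi
      have hO2 : ¬ 2 ∣ Nat.card O := S.not_dvd_core hT (s := 2) (m := 1782) (k := 1) (by norm_num) (by norm_num)
        (iso_13 h 2 (by norm_num) (by norm_num)) (by rw [hgc']) (by norm_num) (by decide)
      have hO7 : ¬ 7 ∣ Nat.card O := S.not_dvd_core hT (s := 7) (m := 1782) (k := 0) (by norm_num) (by norm_num)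
        (iso_13 h 7 (by norm_num) (by norm_num)) (by rw [hgc']) (by norm_num) (by decide)
      have c2 : Nat.Coprime 2 (Nat.card O) := (Nat.Prime.coprime_iff_not_dvd (by norm_num)).2 hO2
      have c7 : Nat.Coprime 7 (Nat.card O) := (Nat.Prime.coprime_iff_not_dvd (by norm_num)).2 hO7
      have h11 : ¬ 11 ∣ Nat.card M := by
        intro h11
        have h1 := S.dvd_simple hT (s := 11) (by norm_num) (iso_13 h 11 (by norm_num) (by norm_num))
          (by decide +kernel) h11
        rw [hgc'] at h1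
        norm_num at h1
      refine two_of_prime_order (v := 11) (b := 14) (by norm_num) (by rw [hc]; norm_num) h11 (by norm_num)
        e14 fun m hm hmo => ?_
      obtain ⟨w, hw⟩ := Sit.exists_of_coprime hm (O := O) (N := N)
        (by rw [hmo, show 14 = 2 * 7 by norm_num]; exact c2.mul_left c7) hNn
        (by rw [hi]; exact Nat.coprime_one_right _)
      exact no_14_g24 tab hr w (by rw [hw, hmo])
    · exfalso
      have hgc' : Nat.card N = 29120 := by rw [hgc]; decide +kernel
      rw [hgc'] at hi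
      have h1 := (dvd_mul_left _ _).trans hi
      norm_num at h1
  · by_cases h11 : 11 ∣ Nat.card M
    swap
    · exact Two.of_two_primes (v := 11) (w := 13) (by norm_num) (by norm_num) (by norm_num) (by rw [hc]; norm_num)
        (by rw [hc]; norm_num) h11 h13
    have S : Sit T 448345497600 l 11 M := ⟨tab, known, hc, valid_l, by norm_num, by norm_num, h11, hM.1⟩
    obtain ⟨O, hO, N, hT⟩ := S.exists_top
    have hNn := hT.normal
    have hd7 := S.dvd_simple hT (s := 7) (by norm_num) (iso_11 h 7 (by norm_num) (by norm_num)) (by decide +kernel) h7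
    have hna := Cfsg.Agent.H257.El.Sit.not_comm_of_dvd hT (by norm_num) (by norm_num) hd7
    have hNM : Nat.card N ∣ Nat.card M := (Subgroup.card_subgroup_dvd_card N).trans ⟨_, (card_quot_mul O).symm⟩
    obtain ⟨g, hg, hr, hgc⟩ := S.exists_surv hT hna [7] (by simpa using hd7)
    have hg' := mem_of_chkSurv (L := [.alt 11, .alt 12, .alt 13, .m22]) (by decide +kernel) hg
    have hne : Nat.card N ≠ 11 := by
      intro h1
      rw [h1] at hd7
      norm_num at hd7
    have hi := S.index_dvd hT (iso_11 h) hne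
    simp only [List.mem_cons, List.not_mem_nil, or_false] at hg'
    rcases hg' with rfl | rfl | rfl | rfl
    · -- `A11`
      have hgc' : Nat.card N = 19958400 := by rw [hgc]; decide +kernel
      rw [hgc'] at hi
      norm_num at hi
      have hi2 : N.index ∣ 2 := by
        have h1 : N.index * 5 ∣ 2 * 5 := hi
        exact Nat.dvd_of_mul_dvd_mul_right (by norm_num) h1
      obtain ⟨e⟩ := hr
      rcases (Nat.dvd_prime Nat.prime_two).1 hi2 with hi1 | hi1
      · have hO2 : ¬ 2 ∣ Nat.card O := S.not_dvd_core hT (s := 2) (m := 22464) (k := 6) (by norm_num) (by norm_num)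
          (iso_11 h 2 (by norm_num) (by norm_num)) (by rw [hgc']) (by norm_num) (by decide)
        have hO3 : ¬ 3 ∣ Nat.card O := S.not_dvd_core hT (s := 3) (m := 22464) (k := 3) (by norm_num) (by norm_num)
          (iso_11 h 3 (by norm_num) (by norm_num)) (by rw [hgc']) (by norm_num) (by decide)
        have c2 : Nat.Coprime 2 (Nat.card O) := (Nat.Prime.coprime_iff_not_dvd (by norm_num)).2 hO2
        have c3 : Nat.Coprime 3 (Nat.card O) := (Nat.Prime.coprime_iff_not_dvd (by norm_num)).2 hO3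
        refine two_of_prime_order (v := 13) (b := 24) (by norm_num) (by rw [hc]; norm_num) h13 (by norm_num)
          e24 fun m hm hmo => ?_
        obtain ⟨w, hw⟩ := Sit.exists_of_coprime hm (O := O) (N := N)
          (by rw [hmo, show 24 = 2 * 2 * 2 * 3 by norm_num]
              exact ((c2.mul_left c2).mul_left c2).mul_left c3) hNn
          (by rw [hi1]; exact Nat.coprime_one_right _)
        have h1 := (e w).2
        rw [Equiv.Perm.mem_alternatingGroup] at h1
        apply no_24 _ h1
        rw [Subgroup.orderOf_coe, MulEquiv.orderOf_eq, hw, hmo]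
      · exfalso
        obtain ⟨f⟩ := Cfsg.Agent.H686.TZ.equiv_perm (n := 11) (by norm_num) N e (centralizer_top hT hna) (by
          intro h1
          rw [h1, Subgroup.index_top] at hi1
          norm_num at hi1)
        obtain ⟨σ, hσ⟩ := exists_28
        obtain ⟨y, hy⟩ := QuotientGroup.mk'_surjective O (f.symm σ)
        obtain ⟨j, hj⟩ := exists_lift (QuotientGroup.mk' O) (z := y) (n := 28)
          (by rw [hy, MulEquiv.orderOf_eq, hσ])
        exact no_28 h ((y ^ j : M) : T) (by rw [Subgroup.orderOf_coe, hj])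
    · -- `A12`
      exfalso
      obtain ⟨e⟩ := hr
      obtain ⟨σ, hσ⟩ := exists_35_12
      obtain ⟨z, hz⟩ := Cfsg.Agent.H257.El.Sit.exists_orderOf (N := N) (k := 35)
        ⟨e.symm σ, by rw [MulEquiv.orderOf_eq, hσ]⟩
      exact no35 z hz
    · exfalso
      apply h13
      refine dvd_trans ?_ hNM
      rw [hgc]
      exact ⟨239500800, by decide +kernel⟩
    · -- `M22`
      have hgc' : Nat.card N = 443520 := hgc
      rw [hgc'] at hi
      norm_num at hi
      have hi2 : N.index ∣ 2 := by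
        have h1 : N.index * 5 ∣ 2 * 5 := hi
        exact Nat.dvd_of_mul_dvd_mul_right (by norm_num) h1
      have hO2 : ¬ 2 ∣ Nat.card O := S.not_dvd_core hT (s := 2) (m := 1010880) (k := 6) (by norm_num) (by norm_num)
        (iso_11 h 2 (by norm_num) (by norm_num)) (by rw [hgc']) (by norm_num) (by decide)
      have hO5 : ¬ 5 ∣ Nat.card O := S.not_dvd_core hT (s := 5) (m := 1010880) (k := 1) (by norm_num) (by norm_num)
        (iso_11 h 5 (by norm_num) (by norm_num)) (by rw [hgc']) (by norm_num) (by decide)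
      have c2 : Nat.Coprime 2 (Nat.card O) := (Nat.Prime.coprime_iff_not_dvd (by norm_num)).2 hO2
      have c5 : Nat.Coprime 5 (Nat.card O) := (Nat.Prime.coprime_iff_not_dvd (by norm_num)).2 hO5
      refine two_of_prime_order (v := 13) (b := 20) (by norm_num) (by rw [hc]; norm_num) h13 (by norm_num)
        e20 fun m hm hmo => ?_
      obtain ⟨w, hw⟩ := Sit.exists_pow_index hm (O := O) (N := N)
        (by rw [hmo, show 20 = 2 * 2 * 5 by norm_num]; exact (c2.mul_left c2).mul_left c5) hNn
      rw [hmo] at hw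
      rcases (Nat.dvd_prime Nat.prime_two).1 hi2 with hi1 | hi1
      · rw [hi1] at hw
        exact no_m22 hr (k := 4) (by norm_num) w (by rw [hw]; norm_num)
      · rw [hi1] at hw
        exact no_m22 hr (k := 2) (by norm_num) w (by rw [hw]; norm_num)

end Suz

end Cfsg.Agent.H966.Der
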