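import Cfsg.Agent.H966.Der.Fac
import Cfsg.Agent.H904.HSIso
import Cfsg.Agent.H993.AbHS
import Cfsg.Agent.H153.ZerosHS
import Cfsg.Agent.H127.PSUThree
import Cfsg.Agent.H348.PPD.RowM22

/-!
# One class of derangements (S3500): `HS` (helper966)
-/

set_option autoImplicit false

namespace Cfsg.Agent.H966.Der

open Subgroup Cfsg
open Cfsg.Agent.OrdDiv Cfsg.Agent.H257.El Cfsg.Agent.H439.Der Cfsg.Agent.H938.Sax

universe u

/-- the orders of elements of `U3(5)` -/
theorem order_u35 {F : Type*} [Field F] [Fintype F] (hF : Fintype.card F = 5 ^ 2) (g : PSU 3 F 5) :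
    orderOf g ∣ 6 ∨ orderOf g ∣ 10 ∨ orderOf g ∣ 8 ∨ orderOf g ∣ 7 := by
  have : Fact (Nat.Prime 5) := ⟨by norm_num⟩
  have : CharP F 5 := charP_of_card_eq_prime_pow hF
  obtain ⟨a, rfl⟩ := QuotientGroup.mk_surjective g
  have h := Cfsg.Agent.H127.PSUThree.order_dvd 5 (by norm_num) 5 hF a
  norm_num at h
  exact h

theorem no_15_u35 {S : Type*} [Group S] (h : Real (.psu 3 5) S) (z : S) : orderOf z ≠ 15 := by
  obtain ⟨F, _, _, hF, ⟨e⟩⟩ := h
  intro hz
  have h1 := order_u35 hF (e z)
  rw [MulEquiv.orderOf_eq, hz] at h1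
  norm_num at h1

/-- `7` is isolated in `U3(5)` -/
theorem iso_7_u35 {S : Type*} [Group S] (h : Real (.psu 3 5) S) (p : ℕ) (hp : p.Prime) (hp7 : 7 ≠ p) (z : S) :
    orderOf z ≠ 7 * p := by
  obtain ⟨F, _, _, hF, ⟨e⟩⟩ := h
  intro hz
  have h1 := order_u35 hF (e z)
  rw [MulEquiv.orderOf_eq, hz] at h1
  rcases h1 with h1 | h1 | h1 | h1
  · exact absurd ((dvd_mul_right 7 p).trans h1) (by norm_num)
  · exact absurd ((dvd_mul_right 7 p).trans h1) (by norm_num)
  · exact absurd ((dvd_mul_right 7 p).trans h1) (by norm_num)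
  · have h2 : p ∣ 7 := (dvd_mul_left p 7).trans h1
    exact hp7 ((Nat.prime_dvd_prime_iff_eq hp (by norm_num)).1 h2).symm

theorem no_m22 {S : Type*} [Group S] (h : Spor.IsoM22 S) {k : ℕ} (hk : 1 < k) (z : S) : orderOf z ≠ 5 * k := by
  obtain ⟨e⟩ := h
  intro hz
  have hc := Cfsg.Agent.SporadicA.MathieuRecog.card_M22
  have : Finite Spor.M22 := Nat.finite_of_card_ne_zero (by rw [hc]; norm_num)
  have h1 := dvd_cent (G := Spor.M22) (p := 5) (c := 5) (k := k) (by norm_num) (by rw [hc]; norm_num)
    Cfsg.Agent.H348.PPD.RowM22.cent5 (z := e z) (by omega) (by rw [MulEquiv.orderOf_eq, hz])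
  have := Nat.le_of_dvd (by norm_num) h1
  omega

namespace HS

def l : List (ℕ × ℕ) := [(2, 9), (3, 2), (5, 3), (7, 1), (11, 1)]

theorem valid_l : valid l 44352000 = true := by decide +kernel

section

variable {T : Type u} [Group T]

theorem finite (h : Spor.IsoHS T) : Finite T :=
  Nat.finite_of_card_ne_zero (by rw [Cfsg.Agent.KFacts.HS.card h]; norm_num)

open Cfsg.Agent.H852.IMHS Cfsg.Agent.H33 Cfsg.Agent.H852.IMPerm Cfsg.Agent.H852.IMLocal Equiv
open Cfsg.Agent.SporadicA.PermTab Cfsg.Agent.HN.HS100 in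
theorem exists_15_Q : ∃ x : Q, orderOf x = 15 := by
  obtain ⟨x, hx⟩ := exists_el in5x
  obtain ⟨s, hs⟩ := exists_el inus
  have : Fact (Nat.Prime 5) := ⟨by norm_num⟩
  have : Fact (Nat.Prime 3) := ⟨by norm_num⟩
  have hxo : orderOf x = 5 := orderOf_of hx (by decide +kernel) 0 (by decide +kernel)
  have hso : orderOf s = 3 := orderOf_of hs (by decide +kernel) 0 (by decide +kernel)
  have hsx : s * x = x * s := commute_of hs hx (by decide +kernel)
  have hc : Commute s x := hsx
  refine ⟨s * x, ?_⟩
  rw [hc.orderOf_mul_eq_mul_orderOf_of_coprime (by rw [hxo, hso]; norm_num), hxo, hso]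

theorem exists_15 (h : Spor.IsoHS T) : ∃ x : T, orderOf x = 15 := by
  obtain ⟨e⟩ := h
  obtain ⟨⟨f⟩, -⟩ := Cfsg.Agent.HN.AutHS.nonempty_Q
  obtain ⟨x, hx⟩ := exists_15_Q
  exact ⟨(f.trans e.symm) x, by rw [MulEquiv.orderOf_eq, hx]⟩

theorem exists_20 (h : Spor.IsoHS T) : ∃ x : T, orderOf x = 20 :=
  Cfsg.Agent.H153.Zeros.hs_ord h Cfsg.Agent.H153.Zeros.hs_twenty

/-- two classes of subgroups of order 5 -/
theorem exists_two (h : Spor.IsoHS T) : ∃ x y : T, orderOf x = 5 ∧ orderOf y = 5 ∧ ∀ φ : T ≃* T, φ y ∉ zpowers x := by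
  have := finite h
  obtain ⟨x, hx, hxc⟩ := exists_central T (p := 5) (a := 3) (by norm_num) (by norm_num)
    (by rw [Cfsg.Agent.KFacts.HS.card h]; norm_num)
  obtain ⟨e⟩ := h
  obtain ⟨y, hy, hyc⟩ := Cfsg.Agent.H993.AbHS.exists_five
  have hy' : orderOf (e.symm y) = 5 := by rw [MulEquiv.orderOf_eq, hy]
  refine ⟨x, e.symm y, hx, hy', two_of_centA hx hy' fun hne => hyc ?_⟩
  rw [hne] at hxc
  have h1 : Nat.card (centralizer ({e.symm y} : Set T)) = Nat.card (centralizer ({y} : Set Spor.HS)) := by
    refine Nat.card_congr ?_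
    exact
      { toFun := fun w => ⟨e w, by
          have h3 := mem_centralizer_singleton_iff.1 w.2
          rw [mem_centralizer_singleton_iff]
          have h4 := congrArg e h3
          rwa [map_mul, map_mul, e.apply_symm_apply] at h4⟩
        invFun := fun w => ⟨e.symm w, by
          have h3 := mem_centralizer_singleton_iff.1 w.2
          rw [mem_centralizer_singleton_iff, ← map_mul, ← map_mul, h3]⟩
        left_inv := fun w => Subtype.ext (e.symm_apply_apply _)
        right_inv := fun w => Subtype.ext (e.apply_symm_apply _) }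
  rwa [h1] at hxc

theorem iso_11 (h : Spor.IsoHS T) (p : ℕ) (hp : p.Prime) (hrp : 11 ≠ p) (z : T) : orderOf z ≠ 11 * p := by
  have := finite h
  exact no_of_cent (by norm_num) (fun x hx => Cfsg.Agent.H904.HSIso.card_eleven h hx) p hp hrp z

theorem iso_7 (h : Spor.IsoHS T) (p : ℕ) (hp : p.Prime) (hrp : 7 ≠ p) (z : T) : orderOf z ≠ 7 * p := by
  have := finite h
  exact no_of_cent (by norm_num) (fun x hx => Cfsg.Agent.H904.HSIso.card_seven h hx) p hp hrp z

/-- a missing prime and `25 ∤ |M|` (or cyclic Sylow 5-subgroups) -/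
theorem two_of_cyc (h : Spor.IsoHS T) {M : Subgroup T} {v : ℕ} (hv : v.Prime) (h1 : v ∣ Nat.card T)
    (h2 : ¬ v ∣ Nat.card M) (hv5 : v ≠ 5) (hcyc : ∀ P : Sylow 5 M, IsCyclic P) : Two T M := by
  have := finite h
  obtain ⟨x, y, hx, hy, hxy⟩ := exists_two h
  exact two_of_classes hv h1 h2 (by norm_num) hv5 hcyc hx hy hxy

variable (tab : OrderTable.{u}) (known : Known.{u})

include tab known in
theorem row_of (h : Spor.IsoHS T) : Row T := by
  have hfin := finite h
  have hc := Cfsg.Agent.KFacts.HS.card h
  have h5' : Fact (Nat.Prime 5) := ⟨by norm_num⟩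
  intro M hM
  left
  by_cases h11 : 11 ∣ Nat.card M
  · have S : Sit T 44352000 l 11 M := ⟨tab, known, hc, valid_l, by norm_num, by norm_num, h11, hM.1⟩
    obtain ⟨O, hO, N, hT⟩ := S.exists_top
    have hNn := hT.normal
    by_cases h7 : 7 ∣ Nat.card M
    · -- `M22`
      have hd := S.dvd_simple hT (s := 7) (by norm_num) (iso_11 h 7 (by norm_num) (by norm_num)) (by decide +kernel) h7
      have hna := Cfsg.Agent.H257.El.Sit.not_comm_of_dvd hT (by norm_num) (by norm_num) hd
      obtain ⟨g, hg, hr, hgc⟩ := S.exists_surv hT hna [7] (by simpa using hd)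
      have hg' := mem_of_chkSurv (L := [.m22]) (by decide +kernel) hg
      rw [List.mem_singleton] at hg'
      subst hg'
      have hgc' : Nat.card N = 443520 := hgc
      have hi := S.index_dvd hT (iso_11 h) (by rw [hgc']; norm_num)
      rw [hgc'] at hi
      norm_num at hi
      have hi := eq_one_of_mul_dvd (by norm_num) hi
      have hO2 : ¬ 2 ∣ Nat.card O := S.not_dvd_core hT (s := 2) (m := 100) (k := 2) (by norm_num) (by norm_num)
        (iso_11 h 2 (by norm_num) (by norm_num)) (by rw [hgc']) (by norm_num) (by decide)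
      have hO3 : ¬ 3 ∣ Nat.card O := S.not_dvd_core hT (s := 3) (m := 100) (k := 0) (by norm_num) (by norm_num)
        (iso_11 h 3 (by norm_num) (by norm_num)) (by rw [hgc']) (by norm_num) (by decide)
      have hO5 : ¬ 5 ∣ Nat.card O := S.not_dvd_core hT (s := 5) (m := 100) (k := 2) (by norm_num) (by norm_num)
        (iso_11 h 5 (by norm_num) (by norm_num)) (by rw [hgc']) (by norm_num) (by decide)
      have c2 : Nat.Coprime 2 (Nat.card O) := (Nat.Prime.coprime_iff_not_dvd (by norm_num)).2 hO2
      have c3 : Nat.Coprime 3 (Nat.card O) := (Nat.Prime.coprime_iff_not_dvd (by norm_num)).2 hO3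
      have c5 : Nat.Coprime 5 (Nat.card O) := (Nat.Prime.coprime_iff_not_dvd (by norm_num)).2 hO5
      have key : ∀ m ∈ M, orderOf m = 15 ∨ orderOf m = 20 → False := by
        intro m hm hmo
        have e1 : Nat.Coprime (orderOf m) (Nat.card O) := by
          rcases hmo with h1 | h1
          · rw [h1, show 15 = 3 * 5 by norm_num]; exact c3.mul_left c5
          · rw [h1, show 20 = 2 * 2 * 5 by norm_num]; exact (c2.mul_left c2).mul_left c5
        have e2 : Nat.Coprime (orderOf m) N.index := by
          rw [hi]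
          exact Nat.coprime_one_right _
        obtain ⟨w, hw⟩ := Sit.exists_of_coprime hm e1 hNn e2
        rcases hmo with h1 | h1
        · exact no_m22 hr (k := 3) (by norm_num) w (by rw [hw, h1])
        · exact no_m22 hr (k := 4) (by norm_num) w (by rw [hw, h1])
      obtain ⟨x, hx⟩ := exists_15 h
      obtain ⟨y, hy⟩ := exists_20 h
      exact Two.of_orders (a := 15) (b := 20) (by norm_num) hx hy (fun m hm h1 => key m hm (Or.inl h1))
        (fun m hm h1 => key m hm (Or.inr h1))
    · -- a missing prime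
      refine two_of_cyc h (v := 7) (by norm_num) (by rw [hc]; norm_num) h7 (by norm_num) ?_
      have hO5 : ¬ 5 ∣ Nat.card O := hT.not_dvd_core (by norm_num) (by norm_num)
        (Cfsg.Agent.H257.El.Sit.noR (iso_11 h 5 (by norm_num) (by norm_num))) fun b hb hd => by
          have h1 := hd.trans S.dvd_n
          have h2 : b ≤ 3 := by
            by_contra h3
            have := (pow_dvd_pow 5 (show 4 ≤ b by omega)).trans h1
            norm_num at this
          interval_cases b <;> norm_num
      by_cases hna : ∀ a b : N, a * b = b * a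
      · exact fun P => hT.isCyclic hna (by norm_num) (by norm_num) hO5 P.isPGroup'
      · refine fun P => cyclic_of_sq (fun h25 => ?_) P
        obtain ⟨g, hg, hr, hgc⟩ := S.exists_surv hT hna [] (by simp)
        have hg' := mem_of_chkSurv (L := [.psl 2 11, .m11, .m22]) (by decide +kernel) hg
        have hNM : Nat.card N ∣ Nat.card M := (Subgroup.card_subgroup_dvd_card N).trans ⟨_, (card_quot_mul O).symm⟩
        have hcard : Nat.card N = 660 ∨ Nat.card N = 7920 := by
          simp only [List.mem_cons, List.not_mem_nil, or_false] at hg'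
          rcases hg' with rfl | rfl | rfl
          · left; rw [hgc]; decide +kernel
          · right; rw [hgc]; rfl
          · exfalso
            apply h7
            refine dvd_trans ?_ hNM
            rw [hgc]
            exact ⟨63360, rfl⟩
        have hi := S.index_dvd hT (iso_11 h) (by rcases hcard with h1 | h1 <;> rw [h1] <;> norm_num)
        have hi1 : N.index = 1 := by
          rcases hcard with h1 | h1
          · rw [h1] at hi
            norm_num at hi
            exact eq_one_of_mul_dvd (by norm_num) hi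
          · rw [h1] at hi
            norm_num at hi
            exact eq_one_of_mul_dvd (by norm_num) hi
        rw [← card_quot_mul O, ← Subgroup.card_mul_index N, hi1, mul_one] at h25
        have h3 : 5 ^ 2 ∣ Nat.card N :=
          Nat.Coprime.dvd_of_dvd_mul_right (Nat.Coprime.pow_left 2 ((Nat.Prime.coprime_iff_not_dvd (by norm_num)).2 hO5))
            h25
        rcases hcard with h1 | h1 <;> rw [h1] at h3 <;> norm_num at h3
  · by_cases h25 : 5 ^ 2 ∣ Nat.card M
    · by_cases h7 : 7 ∣ Nat.card M
      · -- `U3(5)`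
        have S : Sit T 44352000 l 7 M := ⟨tab, known, hc, valid_l, by norm_num, by norm_num, h7, hM.1⟩
        obtain ⟨O, hO, N, hT⟩ := S.exists_top
        have hNn := hT.normal
        have hd := S.pow_dvd hT (s := 5) (by norm_num) (iso_7 h 5 (by norm_num) (by norm_num)) (by decide +kernel) h25
        have hna := Cfsg.Agent.H257.El.Sit.not_comm_of_dvd hT (s := 5) (by norm_num) (by norm_num)
          ((dvd_pow_self 5 (by norm_num)).trans hd)
        obtain ⟨g, hg, hr, hgc⟩ := S.exists_surv hT hna [25] (by simpa using hd)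
        have hg' := mem_of_chkSurv (L := [.psu 3 5]) (by decide +kernel) hg
        rw [List.mem_singleton] at hg'
        subst hg'
        have hgc' : Nat.card N = 126000 := by rw [hgc]; decide +kernel
        have hi := S.index_dvd hT (iso_7 h) (by rw [hgc']; norm_num)
        rw [hgc'] at hi
        norm_num at hi
        have hO3 : ¬ 3 ∣ Nat.card O := S.not_dvd_core hT (s := 3) (m := 352) (k := 0) (by norm_num) (by norm_num)
          (iso_7 h 3 (by norm_num) (by norm_num)) (by rw [hgc']) (by norm_num) (by decide)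
        have hO5 : ¬ 5 ∣ Nat.card O := S.not_dvd_core hT (s := 5) (m := 352) (k := 0) (by norm_num) (by norm_num)
          (iso_7 h 5 (by norm_num) (by norm_num)) (by rw [hgc']) (by norm_num) (by decide)
        have c3 : Nat.Coprime 3 (Nat.card O) := (Nat.Prime.coprime_iff_not_dvd (by norm_num)).2 hO3
        have c5 : Nat.Coprime 5 (Nat.card O) := (Nat.Prime.coprime_iff_not_dvd (by norm_num)).2 hO5
        have hi2 : N.index ∣ 2 := by
          have h1 : N.index * 3 ∣ 2 * 3 := hi
          exact Nat.dvd_of_mul_dvd_mul_right (by norm_num) h1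
        refine two_of_prime_order (v := 11) (b := 15) (by norm_num) (by rw [hc]; norm_num) h11 (by norm_num)
          (exists_15 h) fun m hm hmo => ?_
        obtain ⟨w, hw⟩ := Sit.exists_of_coprime hm (O := O) (N := N)
          (by rw [hmo, show 15 = 3 * 5 by norm_num]; exact c3.mul_left c5) hNn
          (by rw [hmo]; exact Nat.Coprime.coprime_dvd_right hi2 (by norm_num))
        exact no_15_u35 hr w (by rw [hw, hmo])
      · exact Two.of_two_primes (v := 7) (w := 11) (by norm_num) (by norm_num) (by norm_num) (by rw [hc]; norm_num)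
          (by rw [hc]; norm_num) h7 h11
    · exact two_of_cyc h (v := 11) (by norm_num) (by rw [hc]; norm_num) h11 (by norm_num)
        fun P => cyclic_of_sq h25 P

end

end HS

end Cfsg.Agent.H966.Der
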