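import Cfsg.Agent.H966.Der.McL
import Cfsg.Agent.H439.Der.Three
import Cfsg.Agent.H251.Der.Facts
import Cfsg.Agent.H168.GLFour
import Cfsg.Agent.H998.SpSmallF
import Cfsg.Agent.H359.FactsB

/-!
# Three classes of derangements (S3502): `McL` (helper966)
-/

set_option autoImplicit false

namespace Cfsg.Agent.H966.Der

open Subgroup Cfsg
open Cfsg.Agent.OrdDiv Cfsg.Agent.H257.El Cfsg.Agent.H439.Der Cfsg.Agent.H938.Sax

universe u

/-- three missing elements of different orders -/
theorem three_of_elts {T : Type*} [Group T] {M : Subgroup T} {x y z : T} (hx : ∀ φ : T ≃* T, φ x ∉ M)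
    (hy : ∀ φ : T ≃* T, φ y ∉ M) (hz : ∀ φ : T ≃* T, φ z ∉ M) (hxy : orderOf x ≠ orderOf y)
    (hxz : orderOf x ≠ orderOf z) (hyz : orderOf y ≠ orderOf z) : Three T M :=
  ⟨x, y, z, hx, hy, hz, fun φ h => hxy (by rw [← h, orderOf_mulEquiv]), fun φ h => hxz (by rw [← h, orderOf_mulEquiv]),
    fun φ h => hyz (by rw [← h, orderOf_mulEquiv])⟩

theorem miss_of_order {T : Type*} [Group T] {M : Subgroup T} {x : T} (h : ∀ m ∈ M, orderOf m ≠ orderOf x)
    (φ : T ≃* T) : φ x ∉ M := fun hφ => h _ hφ (orderOf_mulEquiv φ x)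

/-! ### real elements -/

/-- lifting a real element of order `r`, `r ∥ |R|`, from the quotient by a normal `r'`-subgroup -/
theorem lift_real {R : Type*} [Group R] [Finite R] {r : ℕ} (hr : r.Prime) (h2 : ¬ r ^ 2 ∣ Nat.card R) (O : Subgroup R)
    [O.Normal] {y g : R ⧸ O} (hy : orderOf y = r) (hg : g * y * g⁻¹ = y⁻¹) :
    ∃ x c : R, orderOf x = r ∧ c * x * c⁻¹ = x⁻¹ := by
  have hr' : Fact r.Prime := ⟨hr⟩
  obtain ⟨a, ha⟩ := QuotientGroup.mk'_surjective O y
  have hra : r ∣ orderOf a := by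
    rw [← hy, ← ha]
    exact orderOf_map_dvd _ _
  obtain ⟨k, hk⟩ := hra
  have hk0 : k ≠ 0 := by
    rintro rfl
    rw [mul_zero] at hk
    exact (orderOf_pos a).ne' hk
  have hrk : Nat.Coprime r k := by
    rw [Nat.Prime.coprime_iff_not_dvd hr]
    rintro ⟨j, rfl⟩
    apply h2
    rw [pow_two]
    refine dvd_trans ?_ (orderOf_dvd_natCard a)
    rw [hk]
    exact ⟨j, by ring⟩
  obtain ⟨m, hm1, hm2⟩ := Nat.chineseRemainder hrk 1 0
  have hkm : k ∣ m := (Nat.modEq_zero_iff_dvd).1 hm2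
  set x := a ^ m with hx
  have hmx : QuotientGroup.mk' O x = y := by
    rw [hx, map_pow, ha]
    conv_rhs => rw [← pow_one y]
    rw [pow_eq_pow_iff_modEq, hy]
    exact hm1
  have hxr : x ^ r = 1 := by
    obtain ⟨j, rfl⟩ := hkm
    rw [hx, ← pow_mul, show k * j * r = r * k * j by ring, pow_mul, ← hk, pow_orderOf_eq_one, one_pow]
  have hy1 : y ≠ 1 := by
    rintro rfl
    rw [orderOf_one] at hy
    exact hr.one_lt.ne hy
  have hx1 : x ≠ 1 := by
    intro h
    rw [h, map_one] at hmx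
    exact hy1 hmx.symm
  have hxo : orderOf x = r := orderOf_eq_prime hxr hx1
  obtain ⟨c0, hc0⟩ := QuotientGroup.mk'_surjective O g
  set H : Subgroup R := (zpowers y).comap (QuotientGroup.mk' O) with hH
  have hH2 : ¬ r ^ 2 ∣ Nat.card H := fun h => h2 (h.trans (Subgroup.card_subgroup_dvd_card H))
  have hxH : x ∈ H := by
    rw [hH, mem_comap, hmx]
    exact mem_zpowers y
  have hm1' : QuotientGroup.mk' O (c0 * x * c0⁻¹) = y⁻¹ := by
    rw [map_mul, map_mul, map_inv, hmx, hc0, hg]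
  have hx1H : c0 * x * c0⁻¹ ∈ H := by
    rw [hH, mem_comap, hm1']
    exact inv_mem (mem_zpowers y)
  have ho1 : orderOf (c0 * x * c0⁻¹) = r := by
    rw [← MulAut.conj_apply, MulEquiv.orderOf_eq (MulAut.conj c0), hxo]
  obtain ⟨⟨d, hd⟩, hd'⟩ := conj_of_cyclic (fun P => cyclic_of_sq hH2 P) (x := (⟨x, hxH⟩ : H))
    (y := (⟨c0 * x * c0⁻¹, hx1H⟩ : H)) (by rw [Subgroup.orderOf_mk, hxo]) (by rw [Subgroup.orderOf_mk, ho1])
  obtain ⟨i, hi⟩ := mem_zpowers_iff.1 hd'
  have hi' : x ^ i = d * (c0 * x * c0⁻¹) * d⁻¹ := congrArg Subtype.val hi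
  have hdy : ∃ j : ℤ, y ^ j = QuotientGroup.mk' O d := mem_zpowers_iff.1 hd
  obtain ⟨j, hj⟩ := hdy
  have h3 : y ^ i = y⁻¹ := by
    have h4 := congrArg (QuotientGroup.mk' O) hi'
    rw [map_zpow, hmx, map_mul, map_mul, map_inv, hm1', ← hj] at h4
    rw [h4]
    group
  have h4 : x ^ i = x⁻¹ := by
    have h5 : y ^ (i + 1) = 1 := by rw [zpow_add, h3, zpow_one, inv_mul_cancel]
    have h6 : x ^ (i + 1) = 1 := by
      rw [← orderOf_dvd_iff_zpow_eq_one] at h5 ⊢
      rwa [hxo, ← hy]
    rw [zpow_add, zpow_one] at h6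
    exact eq_inv_of_mul_eq_one_left h6
  refine ⟨x, d * c0, hxo, ?_⟩
  rw [← h4, hi']
  group

/-- real elements of order 7 -/
theorem exists_real {N : Type*} [Group N] [Finite N] (h7 : 7 ∣ Nat.card N) (h49 : ¬ 7 ^ 2 ∣ Nat.card N)
    (hne : Nat.card N ≠ 7) (hiso : ∀ p : ℕ, p.Prime → 7 ≠ p → ∀ z : N, orderOf z ≠ 7 * p)
    (hmod : 2 ∣ (Nat.card N / 7) % 7) : ∃ y g : N, orderOf y = 7 ∧ g * y * g⁻¹ = y⁻¹ := by
  have h7' : Fact (Nat.Prime 7) := ⟨by norm_num⟩
  have h2' : Fact (Nat.Prime 2) := ⟨Nat.prime_two⟩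
  obtain ⟨y, hy⟩ := exists_prime_orderOf_dvd_card' (G := N) 7 h7
  have hnm := (card_norm_mod (by norm_num) h49 hne (card_cent_of_noOrd (by norm_num) h49 hiso hy)).1
  obtain ⟨⟨t, ht⟩, hto⟩ := exists_prime_orderOf_dvd_card'
    (G := normalizer ((zpowers y : Subgroup N) : Set N)) 2 (by rw [hnm]; exact hmod.mul_left 7)
  rw [Subgroup.orderOf_mk] at hto
  have htt : t * t = 1 := by rw [← pow_two, ← hto, pow_orderOf_eq_one]
  have ht1 : t⁻¹ = t := by rw [inv_eq_iff_mul_eq_one, htt]
  have h1 : t * y * t⁻¹ ∈ zpowers y := ((mem_normalizer_iff.1 ht) y).1 (mem_zpowers y)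
  obtain ⟨i, hi⟩ := mem_zpowers_iff.1 h1
  have hcomm : y * (t * y * t⁻¹) = (t * y * t⁻¹) * y := by
    rw [← hi]
    exact (Commute.refl y).zpow_right i
  have hz : t * (y * (t * y * t⁻¹)) = (y * (t * y * t⁻¹)) * t := by
    have h2 : t * (y * (t * y * t⁻¹)) * t⁻¹ = y * (t * y * t⁻¹) := by
      rw [hcomm]
      rw [ht1]
      calc t * (t * y * t * y) * t = (t * t) * y * (t * y * t) := by group
        _ = y * (t * y * t) := by rw [htt, one_mul]
        _ = t * y * t * y := by rw [ht1] at hcomm; exact hcomm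
    calc t * (y * (t * y * t⁻¹)) = t * (y * (t * y * t⁻¹)) * t⁻¹ * t := by group
      _ = _ := by rw [h2]
  have hz7 : (y * (t * y * t⁻¹)) ^ 7 = 1 := by
    rw [← hi, ← zpow_one_add, ← zpow_natCast, ← zpow_mul, mul_comm, zpow_mul, zpow_natCast, ← hy, pow_orderOf_eq_one,
      one_zpow]
  by_cases h3 : y * (t * y * t⁻¹) = 1
  · exact ⟨y, t, hy, (eq_inv_of_mul_eq_one_right h3)⟩
  · exfalso
    have h4 : orderOf (y * (t * y * t⁻¹)) = 7 := orderOf_eq_prime hz7 h3
    exact hiso 2 (by norm_num) (by norm_num) _ (orderOf_mul_of_comm (by norm_num) (by norm_num) (by norm_num) h4 hto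
      hz.symm)

/-! ### facts -/

theorem nine_alt (x : alternatingGroup (Fin 9)) : orderOf x ∈ [1, 2, 3, 4, 5, 6, 7, 9, 10, 12, 15] := by
  have h : ∀ x ∈ Cfsg.Agent.H380.AltSpec.T 9 9, x.2 = true → x.1 ∈ [1, 2, 3, 4, 5, 6, 7, 9, 10, 12, 15] := by
    decide +kernel
  exact h _ (Cfsg.Agent.H380.AltSpec.orderOf_mem_T x) rfl

/-- `7` is isolated, from the list of the orders -/
theorem iso_of_list {S : Type*} [Group S] {l : List ℕ} (h : ∀ x : S, orderOf x ∈ l)
    (hl : l.all (fun m => !(m % 7 == 0) || m == 7) = true) (p : ℕ) (hp : p.Prime) (_ : 7 ≠ p) (z : S) :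
    orderOf z ≠ 7 * p := by
  intro hz
  have h1 := h z
  rw [hz] at h1
  have h2 := List.all_eq_true.1 hl _ h1
  rw [Nat.mul_mod_right] at h2
  simp only [beq_self_eq_true, Bool.not_true, Bool.false_or, beq_iff_eq] at h2
  have := hp.one_lt
  omega

theorem l42 {S : Type*} [Group S] (h : Real (.psl 4 2) S) (x : S) :
    ∃ m ∈ [1, 2, 3, 4, 5, 6, 7, 15], orderOf x ∣ m := by
  obtain ⟨F, _, _, hF, ⟨e⟩⟩ := h
  obtain ⟨g, hg⟩ := QuotientGroup.mk_surjective (e x)
  obtain ⟨f⟩ := Cfsg.Agent.H168.gl_equiv hF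
  refine ⟨_, Cfsg.Agent.H251.Der.alt_eight (f (Matrix.SpecialLinearGroup.toGL g)), ?_⟩
  rw [MulEquiv.orderOf_eq, ← MulEquiv.orderOf_eq e x, ← hg]
  have h1 : orderOf (Matrix.SpecialLinearGroup.toGL g) = orderOf g :=
    orderOf_injective Matrix.SpecialLinearGroup.toGL Matrix.SpecialLinearGroup.toGL_injective g
  rw [h1]
  exact orderOf_map_dvd (QuotientGroup.mk' _) g

theorem orders_j2 {S : Type*} [Group S] (h : Spor.IsoJ2 S) (p : ℕ) (hp : p.Prime) (_ : 7 ≠ p) (z : S) :
    orderOf z ≠ 7 * p := by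
  obtain ⟨e⟩ := h
  intro hz
  have h1 : orderOf (e z) ∈ Set.range (orderOf : Spor.J2 → ℕ) := ⟨e z, rfl⟩
  rw [Cfsg.Agent.H379.J2Spec.range_J2, MulEquiv.orderOf_eq, hz] at h1
  have h2 := hp.two_le
  simp at h1
  omega

namespace McL

variable {T : Type u} [Group T]

theorem no_real (h : Spor.IsoMcL T) {x c : T} (hx : orderOf x = 7) (hc : c * x * c⁻¹ = x⁻¹) : False := by
  have hfin := finite h
  have hcard := Cfsg.Agent.NotCT.Orders.mcl h
  obtain ⟨h1, h2⟩ := Cfsg.Agent.H904.McLCent.seven h (zpowers x) (by rw [Nat.card_zpowers, hx])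
  obtain ⟨w, hw⟩ := exists_ord h (m := 14) (by simp)
  have hw2 : orderOf (w ^ 2) = 7 := by rw [orderOf_pow_of_dvd (by norm_num) (by rw [hw]; norm_num), hw]
  have h3 : Nat.card (centralizer ((zpowers x : Subgroup T) : Set T)) = 14 := by
    apply Nat.dvd_antisymm h1
    rw [cent_zpowers, card_cent_eq (by norm_num) (by rw [hcard]; norm_num) hx hw2]
    have h4 : w ∈ centralizer ({w ^ 2} : Set T) := mem_centralizer_singleton_iff.2 ((Commute.refl w).pow_right 2).eq
    have h5 := Subgroup.orderOf_dvd_natCard _ h4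
    rwa [hw] at h5
  set C := centralizer ((zpowers x : Subgroup T) : Set T) with hC
  set M := normalizer ((zpowers x : Subgroup T) : Set T) with hM
  let φ : M →* MulAut (zpowers x) := Subgroup.normalizerMonoidHom (zpowers x)
  have hker : φ.ker = C.subgroupOf M := Subgroup.normalizerMonoidHom_ker (zpowers x)
  have hle : C ≤ M := Subgroup.centralizer_le_normalizer _
  have h6 : Nat.card φ.ker * Nat.card φ.range = Nat.card M := by
    rw [← Subgroup.index_ker, Subgroup.card_mul_index]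
  have h7 : Nat.card φ.ker = 14 := by
    rw [hker, Nat.card_congr (Subgroup.subgroupOfEquivOfLe hle).toEquiv, h3]
  rw [h7, h2] at h6
  have h8 : Nat.card φ.range = 3 := by omega
  have hcM : c ∈ M := mem_normalizer_of (by rw [hc]; exact inv_mem (mem_zpowers x))
  have h9 : (⟨c, hcM⟩ : M) ^ 2 ∈ φ.ker := by
    rw [hker, mem_subgroupOf, hC, cent_zpowers, mem_centralizer_singleton_iff]
    show c ^ 2 * x = x * c ^ 2
    have h10 : c ^ 2 * x * (c ^ 2)⁻¹ = x := by
      calc c ^ 2 * x * (c ^ 2)⁻¹ = c * (c * x * c⁻¹) * c⁻¹ := by simp [pow_two, mul_assoc]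
        _ = c * x⁻¹ * c⁻¹ := by rw [hc]
        _ = (c * x * c⁻¹)⁻¹ := by simp [mul_assoc]
        _ = x := by rw [hc, inv_inv]
    calc c ^ 2 * x = (c ^ 2 * x * (c ^ 2)⁻¹) * c ^ 2 := by group
      _ = x * c ^ 2 := by rw [h10]
  have h10 : φ ⟨c, hcM⟩ ^ 2 = 1 := by rw [← map_pow]; exact (MonoidHom.mem_ker).1 h9
  have h11 : φ ⟨c, hcM⟩ ^ 3 = 1 := by
    have h12 : (⟨φ ⟨c, hcM⟩, ⟨_, rfl⟩⟩ : φ.range) ^ 3 = 1 := by rw [← h8]; exact pow_card_eq_one'
    exact congrArg Subtype.val h12
  have h12 : φ ⟨c, hcM⟩ = 1 := by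
    rw [pow_succ, h10, one_mul] at h11
    exact h11
  have h13 : (⟨c, hcM⟩ : M) ∈ φ.ker := h12
  rw [hker, mem_subgroupOf, hC, cent_zpowers, mem_centralizer_singleton_iff] at h13
  have h14 : x⁻¹ = x := by
    rw [← hc]
    show c * x * c⁻¹ = x
    rw [h13]
    group
  have h15 : x ^ 2 = 1 := by
    rw [pow_two]
    nth_rewrite 1 [← h14]
    exact inv_mul_cancel x
  have h16 := orderOf_dvd_of_pow_eq_one h15
  rw [hx] at h16
  norm_num at h16

variable (tab : OrderTable.{u}) (known : Known.{u})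

include tab known in
theorem three_of (h : Spor.IsoMcL T) {M : Subgroup T} (hM : M ≠ ⊤) : Three T M := by
  have hfin := finite h
  have hc := Cfsg.Agent.NotCT.Orders.mcl h
  have h5' : Fact (Nat.Prime 5) := ⟨by norm_num⟩
  have h11' : Fact (Nat.Prime 11) := ⟨by norm_num⟩
  have h7' : Fact (Nat.Prime 7) := ⟨by norm_num⟩
  obtain ⟨w9, e9⟩ := Cfsg.Agent.H998.SpSmallF.mcl_nine h
  obtain ⟨w10, e10⟩ := exists_ord h (m := 10) (by simp)
  obtain ⟨w14, e14⟩ := exists_ord h (m := 14) (by simp)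
  obtain ⟨w15, e15⟩ := exists_ord h (m := 15) (by simp)
  obtain ⟨w30, e30⟩ := exists_ord h (m := 30) (by simp)
  obtain ⟨w11, e11⟩ := exists_prime_orderOf_dvd_card' (G := T) 11 (by rw [hc]; norm_num)
  obtain ⟨a5, b5, ha5, hb5, hab5⟩ := exists_two h
  have hSC7 : ¬ SC T 7 := not_SC_of_orderOf (by norm_num) (y := w14) (by rw [e14]; norm_num) (by rw [e14]; norm_num)
  -- a missing element of order 5
  have key5 : (∀ P : Sylow 5 M, IsCyclic P) → ∃ z : T, orderOf z = 5 ∧ ∀ φ : T ≃* T, φ z ∉ M := by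
    intro hcyc
    rcases miss_or hcyc ha5 hb5 hab5 with h1 | h1
    · exact ⟨a5, ha5, h1⟩
    · exact ⟨b5, hb5, h1⟩
  by_cases h7 : 7 ∣ Nat.card M
  swap
  · by_cases h11 : 11 ∣ Nat.card M
    swap
    · exact Three.of_two_primes (v := 7) (w := 11) (by norm_num) (by norm_num) (by norm_num) (by rw [hc]; norm_num) h7 h11
        hSC7
    -- `7 ∤ |M|`, `11 ∣ |M|`: the Sylow 5-subgroups are cyclic
    have S : Sit T 898128000 l 11 M := ⟨tab, known, hc, valid_l, by norm_num, by norm_num, h11, hM⟩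
    obtain ⟨O, hO, N, hT⟩ := S.exists_top
    have hNn := hT.normal
    have hO5 : ¬ 5 ∣ Nat.card O := hT.not_dvd_core (by norm_num) (by norm_num)
      (Cfsg.Agent.H257.El.Sit.noR (iso_11 h 5 (by norm_num) (by norm_num))) fun b hb hd => by
        have h1 := hd.trans S.dvd_n
        have h2 : b ≤ 3 := by
          by_contra h3
          have := (pow_dvd_pow 5 (show 4 ≤ b by omega)).trans h1
          norm_num at this
        interval_cases b <;> norm_num
    have hcyc : ∀ P : Sylow 5 M, IsCyclic P := by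
      by_cases hna : ∀ a b : N, a * b = b * a
      · exact fun P => hT.isCyclic hna (by norm_num) (by norm_num) hO5 P.isPGroup'
      · refine fun P => cyclic_of_sq (fun h25 => ?_) P
        obtain ⟨g, hg, hr, hgc⟩ := S.exists_surv hT hna [] (by simp)
        have hg' := mem_of_chkSurv (L := [.alt 11, .psl 2 11, .m11, .m12, .m22]) (by decide +kernel) hg
        have hNM : Nat.card N ∣ Nat.card M := (Subgroup.card_subgroup_dvd_card N).trans ⟨_, (card_quot_mul O).symm⟩
        have hcard : Nat.card N = 660 ∨ Nat.card N = 7920 ∨ Nat.card N = 95040 := by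
          simp only [List.mem_cons, List.not_mem_nil, or_false] at hg'
          rcases hg' with rfl | rfl | rfl | rfl | rfl
          · exfalso
            apply h7
            refine dvd_trans ?_ hNM
            rw [hgc]
            exact ⟨2851200, by decide +kernel⟩
          · left; rw [hgc]; decide +kernel
          · right; left; rw [hgc]; rfl
          · right; right; rw [hgc]; rfl
          · exfalso
            apply h7
            refine dvd_trans ?_ hNM
            rw [hgc]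
            exact ⟨63360, rfl⟩
        have hi := S.index_dvd hT (iso_11 h) (by rcases hcard with h1 | h1 | h1 <;> rw [h1] <;> norm_num)
        have hi1 : N.index = 1 := by
          rcases hcard with h1 | h1 | h1
          · rw [h1] at hi
            norm_num at hi
            exact eq_one_of_mul_dvd (by norm_num) hi
          · rw [h1] at hi
            norm_num at hi
            exact eq_one_of_mul_dvd (by norm_num) hi
          · rw [h1] at hi
            norm_num at hi
            exact eq_one_of_mul_dvd (by norm_num) hi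
        rw [← card_quot_mul O, ← Subgroup.card_mul_index N, hi1, mul_one] at h25
        have h3 : 5 ^ 2 ∣ Nat.card N :=
          Nat.Coprime.dvd_of_dvd_mul_right (Nat.Coprime.pow_left 2 ((Nat.Prime.coprime_iff_not_dvd (by norm_num)).2 hO5))
            h25
        rcases hcard with h1 | h1 | h1 <;> rw [h1] at h3 <;> norm_num at h3
    obtain ⟨z, hz, hzm⟩ := key5 hcyc
    exact Three.of_not_SC h7 hSC7 hzm (by rw [hz]; norm_num)
  by_cases h11 : 11 ∣ Nat.card M
  · -- `M22`
    have S : Sit T 898128000 l 11 M := ⟨tab, known, hc, valid_l, by norm_num, by norm_num, h11, hM⟩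
    obtain ⟨O, hO, N, hT⟩ := S.exists_top
    have hNn := hT.normal
    have hd := S.dvd_simple hT (s := 7) (by norm_num) (iso_11 h 7 (by norm_num) (by norm_num)) (by decide +kernel) h7
    have hna := Cfsg.Agent.H257.El.Sit.not_comm_of_dvd hT (by norm_num) (by norm_num) hd
    obtain ⟨g, hg, hr, hgc⟩ := S.exists_surv hT hna [7] (by simpa using hd)
    have hg' := mem_of_chkSurv (L := [.alt 11, .m22]) (by decide +kernel) hg
    simp only [List.mem_cons, List.not_mem_nil, or_false] at hg'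
    rcases hg' with rfl | rfl
    · -- `A11`
      exfalso
      obtain ⟨e⟩ := hr
      obtain ⟨σ, hσ⟩ := exists_21_11
      obtain ⟨z, hz⟩ := Cfsg.Agent.H257.El.Sit.exists_orderOf (N := N) (k := 21)
        ⟨e.symm σ, by rw [MulEquiv.orderOf_eq, hσ]⟩
      exact no_7 h (k := 3) (by norm_num) (by norm_num) z hz
    · -- `M22`
      have hgc' : Nat.card N = 443520 := hgc
      have hi := S.index_dvd hT (iso_11 h) (by rw [hgc']; norm_num)
      rw [hgc'] at hi
      norm_num at hi
      have hi := eq_one_of_mul_dvd (by norm_num) hi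
      have hO2 : ¬ 2 ∣ Nat.card O := S.not_dvd_core hT (s := 2) (m := 2025) (k := 0) (by norm_num) (by norm_num)
        (iso_11 h 2 (by norm_num) (by norm_num)) (by rw [hgc']) (by norm_num) (by decide)
      have hO3 : ¬ 3 ∣ Nat.card O := S.not_dvd_core hT (s := 3) (m := 2025) (k := 4) (by norm_num) (by norm_num)
        (iso_11 h 3 (by norm_num) (by norm_num)) (by rw [hgc']) (by norm_num) (by decide)
      have hO5 : ¬ 5 ∣ Nat.card O := S.not_dvd_core hT (s := 5) (m := 2025) (k := 2) (by norm_num) (by norm_num)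
        (iso_11 h 5 (by norm_num) (by norm_num)) (by rw [hgc']) (by norm_num) (by decide)
      have c2 : Nat.Coprime 2 (Nat.card O) := (Nat.Prime.coprime_iff_not_dvd (by norm_num)).2 hO2
      have c3 : Nat.Coprime 3 (Nat.card O) := (Nat.Prime.coprime_iff_not_dvd (by norm_num)).2 hO3
      have c5 : Nat.Coprime 5 (Nat.card O) := (Nat.Prime.coprime_iff_not_dvd (by norm_num)).2 hO5
      have key : ∀ k : ℕ, 1 < k → Nat.Coprime (5 * k) (Nat.card O) → ∀ m ∈ M, orderOf m ≠ 5 * k := by
        intro k hk hcop m hm hmo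
        obtain ⟨w, hw⟩ := Sit.exists_of_coprime hm (O := O) (N := N) (by rw [hmo]; exact hcop) hNn
          (by rw [hi]; exact Nat.coprime_one_right _)
        exact no_m22 hr hk w (by rw [hw, hmo])
      exact Three.of_orders (a := 10) (b := 15) (c := 30) (by norm_num) (by norm_num) (by norm_num) e10 e15 e30
        (key 2 (by norm_num) (c5.mul_left c2)) (key 3 (by norm_num) (c5.mul_left c3))
        (key 6 (by norm_num) (c5.mul_left ((c2.mul_left c3) : Nat.Coprime (2 * 3) _)))
  have k11 : ∀ φ : T ≃* T, φ w11 ∉ M := not_mem_of_dvd h11 (by rw [e11])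
  by_cases h5 : 5 ∣ Nat.card M
  swap
  · exact Three.of_not_dvd h5 (not_SCC_of_orders (x := w10) (y := w15) (z := w30) (by rw [e10]; norm_num)
      (by rw [e15]; norm_num) (by rw [e30]; norm_num) (by rw [e10, e15]; norm_num) (by rw [e10, e30]; norm_num)
      (by rw [e15, e30]; norm_num)) ⟨w10, by rw [e10]; norm_num⟩
  have S : Sit T 898128000 l 7 M := ⟨tab, known, hc, valid_l, by norm_num, by norm_num, h7, hM⟩
  obtain ⟨O, hO, N, hT⟩ := S.exists_top
  have hNn := hT.normal
  have no35 : ∀ z : T, orderOf z ≠ 7 * 5 := no_7 h (by norm_num) (by norm_num)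
  have no21 : ∀ z : T, orderOf z ≠ 7 * 3 := no_7 h (by norm_num) (by norm_num)
  have hd := S.dvd_simple hT (s := 5) (by norm_num) no35 (by decide +kernel) h5
  have hna := Cfsg.Agent.H257.El.Sit.not_comm_of_dvd hT (s := 5) (by norm_num) (by norm_num) hd
  have hNM : Nat.card N ∣ Nat.card M := (Subgroup.card_subgroup_dvd_card N).trans ⟨_, (card_quot_mul O).symm⟩
  have hN2 : ¬ 7 ^ 2 ∣ Nat.card N := fun h1 => S.sqM (h1.trans hNM)
  obtain ⟨g, hg, hr, hgc⟩ := S.exists_surv hT hna [5] (by simpa using hd)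
  have hg' := mem_of_chkSurv (L := [.alt 7, .alt 8, .alt 9, .alt 10, .alt 11, .psl 4 2, .psl 3 4, .psu 4 3, .psu 3 5,
    .m22, .j2]) (by decide +kernel) hg
  have hO5 : ¬ 5 ∣ Nat.card O := hT.not_dvd_core (by norm_num) (by norm_num)
    (Cfsg.Agent.H257.El.Sit.noR no35) fun b hb hd => by
      have h1 := hd.trans S.dvd_n
      have h2 : b ≤ 3 := by
        by_contra h3
        have := (pow_dvd_pow 5 (show 4 ≤ b by omega)).trans h1
        norm_num at this
      interval_cases b <;> norm_num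
  have c5 : Nat.Coprime 5 (Nat.card O) := (Nat.Prime.coprime_iff_not_dvd (by norm_num)).2 hO5
  have hi5 : ¬ 5 ∣ N.index := hT.not_dvd_index (by norm_num) (by norm_num) (Cfsg.Agent.H257.El.Sit.noR no35)
    (by norm_num)
  have d5 : Nat.Coprime 5 N.index := (Nat.Prime.coprime_iff_not_dvd (by norm_num)).2 hi5
  -- `11`, a class of elements of order 5, and `9`
  have key9 : (Nat.card N / 7) % 7 = 3 → ¬ 5 ^ 2 ∣ Nat.card N → Nat.card N ≠ 7 → ¬ 3 ∣ Nat.card O →
      (∀ p : ℕ, p.Prime → 7 ≠ p → ∀ z : N, orderOf z ≠ 7 * p) → (∀ w : N, orderOf w ≠ 9) → Three T M := by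
    intro hmod hN25 hne hO3 hiso hno
    have h25 : ¬ 5 ^ 2 ∣ Nat.card M := by
      intro h25
      rw [← card_quot_mul O, ← Subgroup.card_mul_index N] at h25
      have h3 : 5 ^ 2 ∣ Nat.card N * N.index := Nat.Coprime.dvd_of_dvd_mul_right (Nat.Coprime.pow_left 2 c5) h25
      exact hN25 (Nat.Coprime.dvd_of_dvd_mul_right (Nat.Coprime.pow_left 2 d5) h3)
    obtain ⟨z, hz, hzm⟩ := key5 fun P => cyclic_of_sq h25 P
    obtain ⟨y, hy⟩ := exists_prime_orderOf_dvd_card' (G := N) 7 hT.dvd
    have hnm := (card_norm_mod (by norm_num) hN2 hne (card_cent_of_noOrd (by norm_num) hN2 hiso hy)).1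
    rw [hmod] at hnm
    have hi3 : ¬ 3 ∣ N.index := not_dvd_index_of (r := 7) (by norm_num) (by norm_num) (by norm_num) N hT.dvd hN2
      (Top.noQuot O (Cfsg.Agent.H257.El.Sit.noR no21)) (by norm_num) hy (by rw [hnm]; norm_num)
    have d3 : Nat.Coprime 3 N.index := (Nat.Prime.coprime_iff_not_dvd (by norm_num)).2 hi3
    have c3 : Nat.Coprime 3 (Nat.card O) := (Nat.Prime.coprime_iff_not_dvd (by norm_num)).2 hO3
    refine three_of_elts k11 hzm (miss_of_order (x := w9) fun m hm hmo => ?_) (by rw [e11, hz]; norm_num)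
      (by rw [e11, e9]; norm_num) (by rw [hz, e9]; norm_num)
    rw [e9] at hmo
    obtain ⟨w, hw⟩ := Sit.exists_of_coprime hm (O := O) (N := N)
      (by rw [hmo, show 9 = 3 * 3 by norm_num]; exact c3.mul_left c3) hNn
      (by rw [hmo, show 9 = 3 * 3 by norm_num]; exact d3.mul_left d3)
    exact hno w (by rw [hw, hmo])
  -- `11`, `15`, `30`
  have key15 : Nat.Coprime 3 (Nat.card O) → Nat.Coprime 3 N.index → (∀ w : N, orderOf w ≠ 15) → Three T M := by
    intro c3 d3 hno
    have k15 : ∀ m ∈ M, orderOf m ≠ 15 := by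
      intro m hm hmo
      obtain ⟨w, hw⟩ := Sit.exists_of_coprime hm (O := O) (N := N)
        (by rw [hmo, show 15 = 3 * 5 by norm_num]; exact c3.mul_left c5) hNn
        (by rw [hmo, show 15 = 3 * 5 by norm_num]; exact d3.mul_left d5)
      exact hno w (by rw [hw, hmo])
    refine three_of_elts k11 (miss_of_order (x := w15) (by rw [e15]; exact k15))
      (miss_of_order (x := w30) fun m hm hmo => k15 (m ^ 2) (M.pow_mem hm 2) ?_) (by rw [e11, e15]; norm_num)
      (by rw [e11, e30]; norm_num) (by rw [e15, e30]; norm_num)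
    rw [e30] at hmo
    rw [orderOf_pow_of_dvd (by norm_num) (by rw [hmo]; norm_num), hmo]
  -- no real elements of order 7
  have keyR : 2 ∣ (Nat.card N / 7) % 7 → Nat.card N ≠ 7 →
      (∀ p : ℕ, p.Prime → 7 ≠ p → ∀ z : N, orderOf z ≠ 7 * p) → False := by
    intro hmod hne hiso
    obtain ⟨y, g, hy, hg⟩ := exists_real hT.dvd hN2 hne hiso hmod
    obtain ⟨x, c, hx, hc⟩ := lift_real (by norm_num) S.sqM O (y := (y : M ⧸ O)) (g := (g : M ⧸ O))
      (by rw [Subgroup.orderOf_coe, hy]) (by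
        have := congrArg (Subtype.val) hg
        simpa using this)
    exact no_real h (x := (x : T)) (c := (c : T)) (by rw [Subgroup.orderOf_coe, hx]) (by
      have := congrArg (Subtype.val) hc
      simpa using this)
  have hO3 : ∀ m k : ℕ, Nat.card N * m = 898128000 → ¬ 3 ^ (k + 1) ∣ m → k ≤ 5 → ¬ 3 ∣ Nat.card O := by
    intro m k hm hk hk5
    refine S.not_dvd_core hT (s := 3) (m := m) (k := k) (by norm_num) (by norm_num) no21 hm hk fun b hb => ?_
    have : b < 5 := by omega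
    interval_cases b <;> norm_num
  simp only [List.mem_cons, List.not_mem_nil, or_false] at hg'
  rcases hg' with rfl | rfl | rfl | rfl | rfl | rfl | rfl | rfl | rfl | rfl | rfl
  · -- `A7`
    have hgc' : Nat.card N = 2520 := by rw [hgc]; decide +kernel
    obtain ⟨e⟩ := hr
    have hl : ∀ x : N, orderOf x ∈ [1, 2, 3, 4, 5, 6, 7] :=
      Cfsg.Agent.H251.Der.mem_of_equiv e Cfsg.Agent.H251.Der.alt_seven
    exact key9 (by rw [hgc']) (by rw [hgc']; norm_num) (by rw [hgc']; norm_num)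
      (hO3 356400 4 (by rw [hgc']) (by norm_num) (by norm_num)) (iso_of_list hl (by decide))
      (fun w hw => by have := hl w; rw [hw] at this; simp at this)
  · -- `A8`
    have hgc' : Nat.card N = 20160 := by rw [hgc]; decide +kernel
    obtain ⟨e⟩ := hr
    have hl : ∀ x : N, orderOf x ∈ [1, 2, 3, 4, 5, 6, 7, 15] :=
      Cfsg.Agent.H251.Der.mem_of_equiv e Cfsg.Agent.H251.Der.alt_eight
    exact key9 (by rw [hgc']) (by rw [hgc']; norm_num) (by rw [hgc']; norm_num)
      (hO3 44550 4 (by rw [hgc']) (by norm_num) (by norm_num)) (iso_of_list hl (by decide))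
      (fun w hw => by have := hl w; rw [hw] at this; simp at this)
  · -- `A9`
    exfalso
    have hgc' : Nat.card N = 181440 := by rw [hgc]; decide +kernel
    obtain ⟨e⟩ := hr
    exact keyR (by rw [hgc']; norm_num) (by rw [hgc']; norm_num)
      (iso_of_list (Cfsg.Agent.H251.Der.mem_of_equiv e nine_alt) (by decide))
  · -- `A10`
    exfalso
    obtain ⟨e⟩ := hr
    obtain ⟨σ, hσ⟩ := exists_21_10
    obtain ⟨z, hz⟩ := Cfsg.Agent.H257.El.Sit.exists_orderOf (N := N) (k := 21)
      ⟨e.symm σ, by rw [MulEquiv.orderOf_eq, hσ]⟩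
    exact no21 z hz
  · -- `A11`
    exfalso
    apply h11
    refine dvd_trans ?_ hNM
    rw [hgc]
    exact ⟨1814400, by decide +kernel⟩
  · -- `L4(2)`
    have hgc' : Nat.card N = 20160 := by rw [hgc]; decide +kernel
    have hl := l42 hr
    refine key9 (by rw [hgc']) (by rw [hgc']; norm_num) (by rw [hgc']; norm_num)
      (hO3 44550 4 (by rw [hgc']) (by norm_num) (by norm_num)) ?_ ?_
    · intro p hp hp7 z hz
      obtain ⟨m, hm, hd⟩ := hl z
      rw [hz] at hd
      have h2 := hp.two_le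
      have h7m : 7 ∣ m := (dvd_mul_right 7 p).trans hd
      simp only [List.mem_cons, List.not_mem_nil, or_false] at hm
      rcases hm with rfl | rfl | rfl | rfl | rfl | rfl | rfl | rfl
      all_goals
        have h3 := Nat.le_of_dvd (by norm_num) hd
        omega
    · intro w hw
      obtain ⟨m, hm, hd⟩ := hl w
      rw [hw] at hd
      simp only [List.mem_cons, List.not_mem_nil, or_false] at hm
      rcases hm with rfl | rfl | rfl | rfl | rfl | rfl | rfl | rfl <;> exact absurd hd (by norm_num)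
  · -- `L3(4)`
    have hgc' : Nat.card N = 20160 := by rw [hgc]; decide +kernel
    obtain ⟨F, _, _, hF, ⟨e⟩⟩ := hr
    have hl : ∀ x : N, orderOf x ∈ [1, 2, 3, 4, 5, 7] :=
      Cfsg.Agent.H251.Der.mem_of_equiv e (Cfsg.Agent.H251.Der.l34 hF)
    exact key9 (by rw [hgc']) (by rw [hgc']; norm_num) (by rw [hgc']; norm_num)
      (hO3 44550 4 (by rw [hgc']) (by norm_num) (by norm_num)) (iso_of_list hl (by decide))
      (fun w hw => by have := hl w; rw [hw] at this; simp at this)
  · -- `U4(3)`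
    have hgc' : Nat.card N = 3265920 := by rw [hgc]; decide +kernel
    have hOd : Nat.card O ∣ 275 := S.core_dvd (N := N) (by rw [hgc'])
    have hid : N.index ∣ 275 := S.index_dvd' (O := O) (by rw [hgc'])
    obtain ⟨F, _, _, hF, ⟨e⟩⟩ := hr
    exact key15 (Nat.Coprime.coprime_dvd_right hOd (by norm_num)) (Nat.Coprime.coprime_dvd_right hid (by norm_num))
      fun w hw => Cfsg.Agent.H359.no_fifteen_psu43 (by rw [hF]; norm_num) (e w) (by rw [MulEquiv.orderOf_eq, hw])
  · -- `U3(5)`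
    have hgc' : Nat.card N = 126000 := by rw [hgc]; decide +kernel
    have c3 : Nat.Coprime 3 (Nat.card O) := (Nat.Prime.coprime_iff_not_dvd (by norm_num)).2
      (hO3 7128 4 (by rw [hgc']) (by norm_num) (by norm_num))
    obtain ⟨y, hy⟩ := exists_prime_orderOf_dvd_card' (G := N) 7 hT.dvd
    have hnm := (card_norm_mod (by norm_num) hN2 (by rw [hgc']; norm_num)
      (card_cent_of_noOrd (by norm_num) hN2 (iso_7_u35 hr) hy)).1
    rw [hgc'] at hnm
    norm_num at hnm
    have hi3 : ¬ 3 ∣ N.index := not_dvd_index_of (r := 7) (by norm_num) (by norm_num) (by norm_num) N hT.dvd hN2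
      (Top.noQuot O (Cfsg.Agent.H257.El.Sit.noR no21)) (by norm_num) hy (by rw [hnm]; norm_num)
    exact key15 c3 ((Nat.Prime.coprime_iff_not_dvd (by norm_num)).2 hi3) (no_15_u35 hr)
  · -- `M22`
    exfalso
    apply h11
    refine dvd_trans ?_ hNM
    rw [hgc]
    exact ⟨40320, by decide +kernel⟩
  · -- `J2`
    exfalso
    have hgc' : Nat.card N = 604800 := hgc
    exact keyR (by rw [hgc']; norm_num) (by rw [hgc']; norm_num) (orders_j2 hr)

include tab known in
/-- **RowS for McL** -/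
theorem rowS_of (h : Spor.IsoMcL T) : RowS T := by
  have := finite h
  exact RowS.of_three fun M hM => three_of tab known h hM.1

end McL

end Cfsg.Agent.H966.Der
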