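import Cfsg.Agent.H966.Der.HS
import Cfsg.Agent.H60.SpMcL
import Cfsg.Agent.H904.McLCent
import Cfsg.Agent.H153.ZerosMcL
import Cfsg.Agent.H661.SporMcL
import Cfsg.Agent.H379.J2Spec
import Cfsg.Agent.NotCT.Orders

/-!
# One class of derangements (S3500): `McL` (helper966)
-/

set_option autoImplicit false

namespace Cfsg.Agent.H966.Der

open Subgroup Cfsg
open Cfsg.Agent.OrdDiv Cfsg.Agent.H257.El Cfsg.Agent.H439.Der Cfsg.Agent.H938.Sax

universe u

theorem no_j2 {S : Type*} [Group S] (h : Spor.IsoJ2 S) (z : S) : orderOf z ≠ 14 := by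
  obtain ⟨e⟩ := h
  intro hz
  have h1 : orderOf (e z) ∈ Set.range (orderOf : Spor.J2 → ℕ) := ⟨e z, rfl⟩
  rw [Cfsg.Agent.H379.J2Spec.range_J2, MulEquiv.orderOf_eq, hz] at h1
  simp at h1

/-- the centralizer of `⟨x⟩` -/
theorem cent_zpowers {G : Type*} [Group G] (x : G) :
    centralizer ((zpowers x : Subgroup G) : Set G) = centralizer ({x} : Set G) := by
  rw [zpowers_eq_closure, centralizer_closure]

namespace McL

def l : List (ℕ × ℕ) := [(2, 7), (3, 6), (5, 3), (7, 1), (11, 1)]

theorem valid_l : valid l 898128000 = true := by decide +kernel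

variable {T : Type u} [Group T]

theorem finite (h : Spor.IsoMcL T) : Finite T :=
  Nat.finite_of_card_ne_zero (by rw [Cfsg.Agent.NotCT.Orders.mcl h]; norm_num)

theorem exists_ord (h : Spor.IsoMcL T) {m : ℕ} (hm : m ∈ ({10, 14, 15, 30} : Finset ℕ)) : ∃ x : T, orderOf x = m :=
  Cfsg.Agent.H153.Zeros.mcl_orders h m (by
    simp only [Finset.mem_insert, Finset.mem_singleton] at hm ⊢
    tauto)

/-- two classes of subgroups of order 5 -/
theorem exists_two (h : Spor.IsoMcL T) : ∃ x y : T, orderOf x = 5 ∧ orderOf y = 5 ∧ ∀ φ : T ≃* T, φ y ∉ zpowers x := by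
  have := finite h
  obtain ⟨y, hy, -, hyo⟩ := Cfsg.Agent.H661.Spor.mcl_data h
  obtain ⟨w, hw⟩ := exists_ord h (m := 10) (by simp)
  have hx : orderOf (w ^ 2) = 5 := by rw [orderOf_pow_of_dvd (by norm_num) (by rw [hw]; norm_num), hw]
  refine ⟨w ^ 2, y, hx, hy, two_of_centA hx hy fun hne => ?_⟩
  have h3 : w ∈ centralizer ({w ^ 2} : Set T) := mem_centralizer_singleton_iff.2 ((Commute.refl w).pow_right 2).eq
  have h4 := Subgroup.orderOf_dvd_natCard _ h3
  rw [hw, hne] at h4
  have h5 : Even (Nat.card (centralizer ({y} : Set T))) := even_iff_two_dvd.2 ((by norm_num : 2 ∣ 10).trans h4)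
  exact (Nat.not_even_iff_odd.2 hyo) h5

theorem iso_11 (h : Spor.IsoMcL T) (p : ℕ) (hp : p.Prime) (hrp : 11 ≠ p) (z : T) : orderOf z ≠ 11 * p := by
  have := finite h
  exact no_of_cent (by norm_num) (fun x hx => Cfsg.Agent.H60.SpMcL.card_cent_eleven h hx) p hp hrp z

theorem no_7 (h : Spor.IsoMcL T) {k : ℕ} (hk : k ≠ 0) (hc : ¬ 7 * k ∣ 14) (z : T) : orderOf z ≠ 7 * k := by
  have := finite h
  refine no_of_cent' (c := 14) (fun x hx => ?_) hk hc z
  have h1 := (Cfsg.Agent.H904.McLCent.seven h (zpowers x) (by rw [Nat.card_zpowers, hx])).1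
  rwa [cent_zpowers] at h1

variable (tab : OrderTable.{u}) (known : Known.{u})

include tab known in
theorem row_of (h : Spor.IsoMcL T) : Row T := by
  have hfin := finite h
  have hc := Cfsg.Agent.NotCT.Orders.mcl h
  have h5' : Fact (Nat.Prime 5) := ⟨by norm_num⟩
  intro M hM
  left
  by_cases h7 : 7 ∣ Nat.card M
  swap
  · obtain ⟨w, hw⟩ := exists_ord h (m := 14) (by simp)
    exact Two.of_not_dvd h7 (not_SC_of_orderOf (by norm_num) (y := w) (by rw [hw]; norm_num) (by rw [hw]; norm_num))
  by_cases h11 : 11 ∣ Nat.card M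
  · have S : Sit T 898128000 l 11 M := ⟨tab, known, hc, valid_l, by norm_num, by norm_num, h11, hM.1⟩
    obtain ⟨O, hO, N, hT⟩ := S.exists_top
    have hNn := hT.normal
    have hd := S.dvd_simple hT (s := 7) (by norm_num) (iso_11 h 7 (by norm_num) (by norm_num)) (by decide +kernel) h7
    have hna := Cfsg.Agent.H257.El.Sit.not_comm_of_dvd hT (by norm_num) (by norm_num) hd
    obtain ⟨g, hg, hr, hgc⟩ := S.exists_surv hT hna [7] (by simpa using hd)
    have hg' := mem_of_chkSurv (L := [.alt 11, .m22]) (by decide +kernel) hg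
    simp only [List.mem_cons, List.not_mem_nil, or_false] at hg'
    rcases hg' with rfl | rfl
    · -- `A11`
      exfalso
      obtain ⟨e⟩ := hr
      obtain ⟨σ, hσ⟩ := exists_21_11
      obtain ⟨z, hz⟩ := Cfsg.Agent.H257.El.Sit.exists_orderOf (N := N) (k := 21)
        ⟨e.symm σ, by rw [MulEquiv.orderOf_eq, hσ]⟩
      exact no_7 h (k := 3) (by norm_num) (by norm_num) z hz
    · -- `M22`
      have hgc' : Nat.card N = 443520 := hgc
      have hi := S.index_dvd hT (iso_11 h) (by rw [hgc']; norm_num)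
      rw [hgc'] at hi
      norm_num at hi
      have hi := eq_one_of_mul_dvd (by norm_num) hi
      have hO3 : ¬ 3 ∣ Nat.card O := S.not_dvd_core hT (s := 3) (m := 2025) (k := 4) (by norm_num) (by norm_num)
        (iso_11 h 3 (by norm_num) (by norm_num)) (by rw [hgc']) (by norm_num) (by decide)
      have hO5 : ¬ 5 ∣ Nat.card O := S.not_dvd_core hT (s := 5) (m := 2025) (k := 2) (by norm_num) (by norm_num)
        (iso_11 h 5 (by norm_num) (by norm_num)) (by rw [hgc']) (by norm_num) (by decide)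
      have c3 : Nat.Coprime 3 (Nat.card O) := (Nat.Prime.coprime_iff_not_dvd (by norm_num)).2 hO3
      have c5 : Nat.Coprime 5 (Nat.card O) := (Nat.Prime.coprime_iff_not_dvd (by norm_num)).2 hO5
      have key : ∀ m ∈ M, orderOf m ≠ 15 := by
        intro m hm hmo
        obtain ⟨w, hw⟩ := Sit.exists_of_coprime hm (O := O) (N := N)
          (by rw [hmo, show 15 = 3 * 5 by norm_num]; exact c3.mul_left c5) hNn
          (by rw [hi]; exact Nat.coprime_one_right _)
        exact no_m22 hr (k := 3) (by norm_num) w (by rw [hw, hmo])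
      obtain ⟨x, hx⟩ := exists_ord h (m := 15) (by simp)
      obtain ⟨y, hy⟩ := exists_ord h (m := 30) (by simp)
      refine Two.of_orders (a := 15) (b := 30) (by norm_num) hx hy key fun m hm hmo => key (m ^ 2) (M.pow_mem hm 2) ?_
      rw [orderOf_pow_of_dvd (by norm_num) (by rw [hmo]; norm_num), hmo]
  · by_cases h25 : 5 ^ 2 ∣ Nat.card M
    swap
    · obtain ⟨x, y, hx, hy, hxy⟩ := exists_two h
      exact two_of_classes (v := 11) (by norm_num) (by rw [hc]; norm_num) h11 (by norm_num) (by norm_num)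
        (fun P => cyclic_of_sq h25 P) hx hy hxy
    have S : Sit T 898128000 l 7 M := ⟨tab, known, hc, valid_l, by norm_num, by norm_num, h7, hM.1⟩
    obtain ⟨O, hO, N, hT⟩ := S.exists_top
    have hNn := hT.normal
    have no35 : ∀ z : T, orderOf z ≠ 7 * 5 := no_7 h (by norm_num) (by norm_num)
    have no21 : ∀ z : T, orderOf z ≠ 7 * 3 := no_7 h (by norm_num) (by norm_num)
    have hd := S.pow_dvd hT (s := 5) (by norm_num) no35 (by decide +kernel) h25
    have hna := Cfsg.Agent.H257.El.Sit.not_comm_of_dvd hT (s := 5) (by norm_num) (by norm_num)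
      ((dvd_pow_self 5 (by norm_num)).trans hd)
    have hNM : Nat.card N ∣ Nat.card M := (Subgroup.card_subgroup_dvd_card N).trans ⟨_, (card_quot_mul O).symm⟩
    obtain ⟨g, hg, hr, hgc⟩ := S.exists_surv hT hna [25] (by simpa using hd)
    have hg' := mem_of_chkSurv (L := [.alt 10, .alt 11, .psu 3 5, .j2]) (by decide +kernel) hg
    simp only [List.mem_cons, List.not_mem_nil, or_false] at hg'
    rcases hg' with rfl | rfl | rfl | rfl
    · -- `A10`
      exfalso
      obtain ⟨e⟩ := hr
      obtain ⟨σ, hσ⟩ := exists_21_10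
      obtain ⟨z, hz⟩ := Cfsg.Agent.H257.El.Sit.exists_orderOf (N := N) (k := 21)
        ⟨e.symm σ, by rw [MulEquiv.orderOf_eq, hσ]⟩
      exact no21 z hz
    · -- `A11`
      exfalso
      apply h11
      refine dvd_trans ?_ hNM
      rw [hgc]
      exact ⟨1814400, by decide +kernel⟩
    · -- `U3(5)`
      have hgc' : Nat.card N = 126000 := by rw [hgc]; decide +kernel
      have hO3 : ¬ 3 ∣ Nat.card O := S.not_dvd_core hT (s := 3) (m := 7128) (k := 4) (by norm_num) (by norm_num)
        no21 (by rw [hgc']) (by norm_num) (by decide)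
      have hO5 : ¬ 5 ∣ Nat.card O := S.not_dvd_core hT (s := 5) (m := 7128) (k := 0) (by norm_num) (by norm_num)
        no35 (by rw [hgc']) (by norm_num) (by decide)
      have c3 : Nat.Coprime 3 (Nat.card O) := (Nat.Prime.coprime_iff_not_dvd (by norm_num)).2 hO3
      have c5 : Nat.Coprime 5 (Nat.card O) := (Nat.Prime.coprime_iff_not_dvd (by norm_num)).2 hO5
      have hi5 : ¬ 5 ∣ N.index := hT.not_dvd_index (by norm_num) (by norm_num) (Cfsg.Agent.H257.El.Sit.noR no35)
        (by norm_num)
      have h7' : Fact (Nat.Prime 7) := ⟨by norm_num⟩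
      obtain ⟨y, hy⟩ := exists_prime_orderOf_dvd_card' (G := N) 7 hT.dvd
      have hN2 : ¬ 7 ^ 2 ∣ Nat.card N := by rw [hgc']; norm_num
      have hnm := (card_norm_mod (by norm_num) hN2 (by rw [hgc']; norm_num)
        (card_cent_of_noOrd (by norm_num) hN2 (iso_7_u35 hr) hy)).1
      rw [hgc'] at hnm
      norm_num at hnm
      have hi3 : ¬ 3 ∣ N.index := not_dvd_index_of (r := 7) (by norm_num) (by norm_num) (by norm_num) N hT.dvd hN2
        (Top.noQuot O (Cfsg.Agent.H257.El.Sit.noR no21)) (by norm_num) hy (by rw [hnm]; norm_num)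
      have d3 : Nat.Coprime 3 N.index := (Nat.Prime.coprime_iff_not_dvd (by norm_num)).2 hi3
      have d5 : Nat.Coprime 5 N.index := (Nat.Prime.coprime_iff_not_dvd (by norm_num)).2 hi5
      refine two_of_prime_order (v := 11) (b := 15) (by norm_num) (by rw [hc]; norm_num) h11 (by norm_num)
        (exists_ord h (by simp)) fun m hm hmo => ?_
      obtain ⟨w, hw⟩ := Sit.exists_of_coprime hm (O := O) (N := N)
        (by rw [hmo, show 15 = 3 * 5 by norm_num]; exact c3.mul_left c5) hNn
        (by rw [hmo, show 15 = 3 * 5 by norm_num]; exact d3.mul_left d5)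
      exact no_15_u35 hr w (by rw [hw, hmo])
    · -- `J2`
      have hgc' : Nat.card N = 604800 := hgc
      have hOd : Nat.card O ∣ 1485 := S.core_dvd (N := N) (by rw [hgc'])
      have hid : N.index ∣ 1485 := S.index_dvd' (O := O) (by rw [hgc'])
      refine two_of_prime_order (v := 11) (b := 14) (by norm_num) (by rw [hc]; norm_num) h11 (by norm_num)
        (exists_ord h (by simp)) fun m hm hmo => ?_
      obtain ⟨w, hw⟩ := Sit.exists_of_coprime hm (O := O) (N := N)
        (by rw [hmo]; exact Nat.Coprime.coprime_dvd_right hOd (by norm_num)) hNn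
        (by rw [hmo]; exact Nat.Coprime.coprime_dvd_right hid (by norm_num))
      exact no_j2 hr w (by rw [hw, hmo])

end McL

end Cfsg.Agent.H966.Der
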