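import Cfsg.Agent.H439.Der.Tools
import Cfsg.Agent.H257.El.Eng

/-!
# One class of derangements (S3500): the engine for sporadic groups (helper966)

`T` a group of order `n`, `M` a proper subgroup, `r` a prime, `r ∥ |T|`, `r ∣ |M|`: `Top M r O N`
(helper257's engine), and lemmas on the core, the index and element orders.
-/

set_option autoImplicit false

namespace Cfsg.Agent.H966.Der

open Subgroup
open Cfsg.Agent.OrdDiv Cfsg.Agent.H257.El Cfsg.Agent.H439.Der Cfsg.Agent.H938.Sax

universe u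

/-! ### `Two` -/

section two

variable {T : Type*} [Group T] {M : Subgroup T}

theorem miss_of_pow {x y : T} {k : ℕ} (hx : ∀ φ : T ≃* T, φ x ∉ M) (h : y ^ k = x) (φ : T ≃* T) : φ y ∉ M := by
  intro hy
  apply hx φ
  rw [← h, map_pow]
  exact M.pow_mem hy k

theorem two_of_pow {x y : T} {k : ℕ} (hx : ∀ φ : T ≃* T, φ x ∉ M) (h : y ^ k = x) (hne : orderOf x ≠ orderOf y) :
    Two T M :=
  ⟨x, y, hx, miss_of_pow hx h, fun φ hφ => hne (by rw [← hφ, orderOf_mulEquiv])⟩

/-- a missing prime and a missing element order -/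
theorem two_of_prime_order [Finite T] {v b : ℕ} (hv : v.Prime) (h1 : v ∣ Nat.card T) (h2 : ¬ v ∣ Nat.card M)
    (hvb : v ≠ b) (hy : ∃ y : T, orderOf y = b) (hb : ∀ m ∈ M, orderOf m ≠ b) : Two T M := by
  have := Fact.mk hv
  obtain ⟨x, hx⟩ := exists_prime_orderOf_dvd_card' v h1
  obtain ⟨y, hy⟩ := hy
  refine ⟨x, y, not_mem_of_dvd h2 (by rw [hx]), fun φ hφ => hb _ hφ (by rw [orderOf_mulEquiv, hy]), fun φ hφ => hvb ?_⟩
  rw [← hx, ← hy, ← hφ, orderOf_mulEquiv]

/-- two classes of subgroups of order `s`, and cyclic Sylow `s`-subgroups of `M` -/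
theorem miss_or [Finite T] {s : ℕ} [Fact s.Prime] (hcyc : ∀ P : Sylow s M, IsCyclic P)
    {x y : T} (hx : orderOf x = s) (hy : orderOf y = s) (hxy : ∀ φ : T ≃* T, φ y ∉ zpowers x) :
    (∀ φ : T ≃* T, φ x ∉ M) ∨ (∀ φ : T ≃* T, φ y ∉ M) := by
  by_contra hcon
  push Not at hcon
  obtain ⟨⟨a, ha⟩, ⟨b, hb⟩⟩ := hcon
  have hx' : orderOf (⟨a x, ha⟩ : M) = s := by rw [Subgroup.orderOf_mk, orderOf_mulEquiv, hx]
  have hy' : orderOf (⟨b y, hb⟩ : M) = s := by rw [Subgroup.orderOf_mk, orderOf_mulEquiv, hy]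
  obtain ⟨g, hg⟩ := conj_of_cyclic hcyc hx' hy'
  obtain ⟨j, hj⟩ := mem_zpowers_iff.1 hg
  have h1 : (a x) ^ j = (g : T) * (b y) * (g : T)⁻¹ := congrArg Subtype.val hj
  apply hxy ((b.trans (MulAut.conj (g : T))).trans a.symm)
  refine mem_zpowers_iff.2 ⟨j, ?_⟩
  apply a.injective
  rw [map_zpow, h1]
  simp

/-- two classes of subgroups of order `s`, `s ^ 2 ∤ |M|`, and a missing prime -/
theorem two_of_classes [Finite T] {v s : ℕ} (hv : v.Prime) (h1 : v ∣ Nat.card T) (h2 : ¬ v ∣ Nat.card M)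
    (hs : s.Prime) (hvs : v ≠ s) (hcyc : ∀ P : Sylow s M, IsCyclic P) {x y : T} (hx : orderOf x = s)
    (hy : orderOf y = s) (hxy : ∀ φ : T ≃* T, φ y ∉ zpowers x) : Two T M := by
  have := Fact.mk hv
  have := Fact.mk hs
  obtain ⟨w, hw⟩ := exists_prime_orderOf_dvd_card' v h1
  have key : ∀ z : T, orderOf z = s → (∀ φ : T ≃* T, φ z ∉ M) → Two T M := fun z hz hm =>
    ⟨w, z, not_mem_of_dvd h2 (by rw [hw]), hm, fun φ hφ => hvs (by rw [← hw, ← hz, ← hφ, orderOf_mulEquiv])⟩
  rcases miss_or hcyc hx hy hxy with h | h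
  · exact key x hx h
  · exact key y hy h

end two

/-! ### orders in quotients and normal subgroups -/

theorem orderOf_mk_of_coprime {R : Type*} [Group R] (O : Subgroup R) [O.Normal] {z : R}
    (h : Nat.Coprime (orderOf z) (Nat.card O)) : orderOf (QuotientGroup.mk' O z) = orderOf z := by
  apply Nat.dvd_antisymm (orderOf_map_dvd _ _)
  rw [orderOf_dvd_iff_pow_eq_one]
  have h1 : z ^ orderOf (QuotientGroup.mk' O z) ∈ O := by
    rw [← QuotientGroup.eq_one_iff]
    have h2 := pow_orderOf_eq_one (QuotientGroup.mk' O z)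
    rw [← map_pow] at h2
    exact h2
  rw [← orderOf_eq_one_iff]
  have h3 : orderOf (z ^ orderOf (QuotientGroup.mk' O z)) ∣ Nat.card O := Subgroup.orderOf_dvd_natCard _ h1
  have h4 : orderOf (z ^ orderOf (QuotientGroup.mk' O z)) ∣ orderOf z := orderOf_pow_dvd _
  exact Nat.eq_one_of_dvd_coprimes h h4 h3

theorem mem_of_coprime_index {Q : Type*} [Group Q] (N : Subgroup Q) [N.Normal] {z : Q}
    (h : Nat.Coprime (orderOf z) N.index) : z ∈ N := by
  rw [← QuotientGroup.eq_one_iff, ← orderOf_eq_one_iff]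
  have h1 : orderOf (QuotientGroup.mk' N z) ∣ orderOf z := orderOf_map_dvd _ _
  have h2 : orderOf (QuotientGroup.mk' N z) ∣ N.index := orderOf_dvd_natCard _
  exact Nat.eq_one_of_dvd_coprimes h h1 h2

/-- the number of fixed points -/
theorem card_mod_of_normalizer {H : Type*} [Group H] [Finite H] {r : ℕ} (hr : r.Prime) {y : H} (hy : orderOf y = r)
    {P : Subgroup H} (hyP : y ∈ normalizer (P : Set H)) :
    Nat.card P ≡ Nat.card ↥(P ⊓ centralizer ({y} : Set H)) [MOD r] := by
  have hconj : ∀ w : H, w ∈ P ↔ y * w * y⁻¹ ∈ P := mem_normalizer_iff.1 hyP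
  let f : Equiv.Perm P :=
    { toFun := fun w => ⟨y * w * y⁻¹, (hconj w).1 w.2⟩
      invFun := fun w => ⟨y⁻¹ * w * y, (hconj _).2 (by simp [mul_assoc])⟩
      left_inv := fun w => Subtype.ext (by simp [mul_assoc])
      right_inv := fun w => Subtype.ext (by simp [mul_assoc]) }
  have hfk : ∀ k : ℕ, ∀ w : P, (((f ^ k) w : P) : H) = y ^ k * w * (y ^ k)⁻¹ := by
    intro k
    induction k with
    | zero => intro w; simp
    | succ k ih =>
      intro w
      rw [pow_succ', Equiv.Perm.mul_apply]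
      show y * ((f ^ k) w : P) * y⁻¹ = _
      rw [ih, pow_succ']
      group
  have hf : f ^ r = 1 := by
    ext w
    rw [hfk, ← hy, pow_orderOf_eq_one]
    simp
  have h6 := Cfsg.Agent.H361.SelfCent.card_modEq_of_perm hr f hf
  have e : {a : P // f a = a} ≃ ↥(P ⊓ centralizer ({y} : Set H)) :=
    { toFun := fun a => ⟨a.1, a.1.2, by
        have h9 : y * (a.1 : H) * y⁻¹ = a.1 := congrArg Subtype.val a.2
        show (a.1 : H) ∈ centralizer ({y} : Set H)
        rw [mem_centralizer_singleton_iff]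
        calc (a.1 : H) * y = (y * (a.1 : H) * y⁻¹) * y := by rw [h9]
          _ = y * (a.1 : H) := by group⟩
      invFun := fun a => ⟨⟨a.1, a.2.1⟩, Subtype.ext (by
        have h9 := mem_centralizer_singleton_iff.1 a.2.2
        show y * (a : H) * y⁻¹ = a
        rw [← h9]; group)⟩
      left_inv := fun a => rfl
      right_inv := fun a => rfl }
  rw [Nat.card_congr e] at h6
  exact h6

/-! ### the top -/

section top

variable {R : Type*} [Group R] [Finite R] {r : ℕ} {O : Subgroup R} [O.Normal] {N : Subgroup (R ⧸ O)} {s : ℕ}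

/-- `Top.not_dvd_core` with the powers of `s` dividing the order of the core -/
theorem not_dvd_core' (h : Top R r O N) (hs : s.Prime) (hrs : r ≠ s) (hno : ∀ z : R, orderOf z ≠ r * s)
    (hord : ∀ b, 1 ≤ b → s ^ b ∣ Nat.card O → s ^ b % r ≠ 1) : ¬ s ∣ Nat.card O := by
  intro hsO
  have hr' : Fact r.Prime := ⟨h.prime⟩
  have hs' : Fact s.Prime := ⟨hs⟩
  obtain ⟨S⟩ : Nonempty (Sylow s O) := inferInstance
  obtain ⟨y, hy, hyS⟩ := exists_normalizer h.dvdR O h.core S
  set P : Subgroup R := (S : Subgroup O).map O.subtype with hP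
  have hPp : IsPGroup s P := S.isPGroup'.map _
  obtain ⟨b, hb⟩ := IsPGroup.iff_card.1 hPp
  have hPc : Nat.card P = Nat.card S := by
    rw [hP, Subgroup.card_map_of_injective O.subtype_injective]
  have hb1 : 1 ≤ b := by
    by_contra hb0
    have : b = 0 := by omega
    rw [this, pow_zero] at hb
    have h3 := S.card_eq_multiplicity
    rw [← hPc, hb] at h3
    have h4 : 1 ≤ (Nat.card O).factorization s := by
      have := (hs.pow_dvd_iff_le_factorization (k := 1) (n := Nat.card O) Nat.card_pos.ne').1 (by rwa [pow_one])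
      exact this
    have h5 := Nat.one_lt_pow (n := (Nat.card O).factorization s) (by omega) hs.one_lt
    omega
  have h1 := hord b hb1 (by rw [← hb, hPc]; exact Subgroup.card_subgroup_dvd_card _)
  obtain ⟨w, -, hw, hyw⟩ := exists_comm_of_normalizer h.prime hs hy hPp hyS (by rw [hb]; exact h1)
  exact hno _ (orderOf_mul_of_comm h.prime hs hrs hy hw hyw)

/-- the centralizer of a non-commutative `N` is trivial -/
theorem centralizer_top (h : Top R r O N) (hna : ¬ ∀ a b : N, a * b = b * a) :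
    centralizer (N : Set (R ⧸ O)) = ⊥ := by
  have hN := h.normal
  have hsim := h.simple
  apply h.bot _ inferInstance
  intro hd
  have hinf : N ⊓ centralizer (N : Set (R ⧸ O)) = ⊥ := by
    have hz : (N ⊓ centralizer (N : Set (R ⧸ O))).subgroupOf N = ⊥ := by
      have hn : ((N ⊓ centralizer (N : Set (R ⧸ O))).subgroupOf N).Normal := inferInstance
      rcases hsim.eq_bot_or_eq_top_of_normal _ hn with h1 | h1
      · exact h1
      · exfalso
        apply hna
        intro a b
        have h2 : a ∈ (N ⊓ centralizer (N : Set (R ⧸ O))).subgroupOf N := by rw [h1]; trivial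
        have h3 := (mem_centralizer_iff.1 (mem_subgroupOf.1 h2).2) b b.2
        exact Subtype.ext h3.symm
    rw [eq_bot_iff]
    intro x hx
    have h3 : (⟨x, hx.1⟩ : N) ∈ (N ⊓ centralizer (N : Set (R ⧸ O))).subgroupOf N := by
      rw [mem_subgroupOf]; exact hx
    rw [hz, mem_bot] at h3
    rw [mem_bot]
    exact congrArg Subtype.val h3
  apply h.sq'
  have h4 : Nat.card N * Nat.card (centralizer (N : Set (R ⧸ O))) ∣ Nat.card (R ⧸ O) := by
    have h5 : N.relIndex (N ⊔ centralizer (N : Set (R ⧸ O))) =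
        Nat.card (centralizer (N : Set (R ⧸ O))) := by
      rw [Subgroup.relIndex_sup_left, ← Subgroup.inf_relIndex_right, hinf, Subgroup.relIndex_bot_left]
    have h6 : Nat.card N * N.relIndex (N ⊔ centralizer (N : Set (R ⧸ O))) =
        Nat.card ↥(N ⊔ centralizer (N : Set (R ⧸ O))) := by
      have h7 := Subgroup.card_mul_index (N.subgroupOf (N ⊔ centralizer (N : Set (R ⧸ O))))
      rwa [Nat.card_congr (Subgroup.subgroupOfEquivOfLe le_sup_left).toEquiv] at h7
    rw [← h5, h6]
    exact Subgroup.card_subgroup_dvd_card _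
  rw [pow_two]
  exact (Nat.mul_dvd_mul h.dvd hd).trans h4

end top

/-! ### the situation -/

/-- a proper subgroup `M` of order divisible by `r`, `r ∥ |T|` -/
structure Sit (T : Type u) [Group T] (n : ℕ) (l : List (ℕ × ℕ)) (r : ℕ) (M : Subgroup T) : Prop where
  tab : OrderTable.{u}
  known : Known.{u}
  card : Nat.card T = n
  valid : valid l n = true
  prime : r.Prime
  sq : ¬ r ^ 2 ∣ n
  dvd : r ∣ Nat.card M
  ne : M ≠ ⊤

namespace Sit

variable {T : Type u} [Group T] [Finite T] {n : ℕ} {l : List (ℕ × ℕ)} {r : ℕ} {M : Subgroup T}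

omit [Finite T] in
theorem dvd_n (S : Sit T n l r M) : Nat.card M ∣ n := by
  rw [← S.card]
  exact Subgroup.card_subgroup_dvd_card M

omit [Finite T] in
theorem sqM (S : Sit T n l r M) : ¬ r ^ 2 ∣ Nat.card M := fun h => S.sq (h.trans S.dvd_n)

theorem card_lt (S : Sit T n l r M) : Nat.card M < n := by
  rw [← S.card]
  refine lt_of_le_of_ne (Nat.le_of_dvd Nat.card_pos (Subgroup.card_subgroup_dvd_card M)) fun h => S.ne ?_
  exact Subgroup.eq_top_of_card_eq M h

theorem exists_top (S : Sit T n l r M) :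
    ∃ (O : Subgroup M) (_ : O.Normal) (N : Subgroup (M ⧸ O)), Top M r O N :=
  Cfsg.Agent.H257.El.exists_top S.prime S.dvd S.sqM

variable {O : Subgroup M} [O.Normal] {N : Subgroup (M ⧸ O)}

/-- `|O| |N| |Q : N|` divides `n` -/
theorem mul_dvd (S : Sit T n l r M) : Nat.card O * (Nat.card N * N.index) ∣ n := by
  rw [Subgroup.card_mul_index N, mul_comm, card_quot_mul O]
  exact S.dvd_n

/-- the primes not adjacent to `r` divide the order of the simple group at the top -/
theorem dvd_simple (S : Sit T n l r M) (h : Top M r O N) {s : ℕ} (hs : s.Prime)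
    (hno : ∀ z : T, orderOf z ≠ r * s) (hok : okPair n l r s = true) (hsM : s ∣ Nat.card M) : s ∣ Nat.card N := by
  unfold okPair at hok
  rw [Bool.and_eq_true, Bool.and_eq_true, Bool.and_eq_true] at hok
  obtain ⟨⟨⟨h1, h2⟩, h3⟩, h4⟩ := hok
  have h1' : r ≠ s := by simpa using h1
  have h2' : ¬ s ∣ r - 1 := by
    intro hd
    rw [Nat.mod_eq_zero_of_dvd hd] at h2
    exact absurd h2 (by decide)
  exact h.dvd_simple hs h1' (Cfsg.Agent.H257.El.Sit.noR hno)
    (fun _ hb hd => okPow_spec S.valid h4 hs hb (hd.trans S.dvd_n)) h2' hsM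

/-- the powers of the primes not adjacent to `r` -/
theorem pow_dvd (S : Sit T n l r M) (h : Top M r O N) {s k : ℕ} (hs : s.Prime)
    (hno : ∀ z : T, orderOf z ≠ r * s) (hok : okPair n l r s = true) (hk : s ^ k ∣ Nat.card M) :
    s ^ k ∣ Nat.card N := by
  unfold okPair at hok
  rw [Bool.and_eq_true, Bool.and_eq_true, Bool.and_eq_true] at hok
  obtain ⟨⟨⟨h1, h2⟩, h3⟩, h4⟩ := hok
  have h1' : r ≠ s := by simpa using h1
  have h2' : ¬ s ∣ r - 1 := by
    intro hd
    rw [Nat.mod_eq_zero_of_dvd hd] at h2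
    exact absurd h2 (by decide)
  exact h.pow_dvd_iff hs h1' (Cfsg.Agent.H257.El.Sit.noR hno)
    (fun _ hb hd => okPow_spec S.valid h4 hs hb (hd.trans S.dvd_n)) h2' hk

/-- a non-commutative `N` is in the list -/
theorem exists_surv (S : Sit T n l r M) (h : Top M r O N) (hna : ¬ ∀ a b : N, a * b = b * a) (ss : List ℕ)
    (hss : ∀ s ∈ ss, s ∣ Nat.card N) : ∃ g ∈ surv n l r ss, Real g N ∧ Nat.card N = ordN g := by
  have hsim := h.simple
  have hNR : Nat.card N ∣ Nat.card M := by
    refine (Subgroup.card_subgroup_dvd_card N).trans ?_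
    rw [← card_quot_mul O]
    exact dvd_mul_right _ _
  have hNn : Nat.card N ∣ n := hNR.trans S.dvd_n
  obtain ⟨g, hg, hr, hc⟩ := exists_good S.tab (S.known N) hna S.valid hNn
  refine ⟨g, List.mem_filter.2 ⟨hg, ?_⟩, hr, hc⟩
  unfold okG
  rw [Bool.and_eq_true, Bool.and_eq_true, List.all_eq_true]
  refine ⟨⟨?_, ?_⟩, fun s hs => ?_⟩
  · rw [← hc, Nat.mod_eq_zero_of_dvd h.dvd]; rfl
  · rw [← hc]
    have h1 : Nat.card N ≤ Nat.card M := Nat.le_of_dvd Nat.card_pos hNR
    have h2 := S.card_lt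
    have h3 : Nat.card N ≠ n := by omega
    simpa using h3
  · rw [← hc, Nat.mod_eq_zero_of_dvd (hss s hs)]; rfl

/-- the core: numeric condition with the order of `N` known -/
theorem not_dvd_core (S : Sit T n l r M) (h : Top M r O N) {s m k : ℕ} (hs : s.Prime) (hrs : r ≠ s)
    (hno : ∀ z : T, orderOf z ≠ r * s) (hm : Nat.card N * m = n) (hk : ¬ s ^ (k + 1) ∣ m)
    (hord : ∀ b < k, s ^ (b + 1) % r ≠ 1) : ¬ s ∣ Nat.card O := by
  refine not_dvd_core' h hs hrs (Cfsg.Agent.H257.El.Sit.noR hno) fun b hb hd => ?_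
  have h1 : Nat.card O ∣ m := by
    have h2 := S.mul_dvd (O := O) (N := N)
    rw [← hm] at h2
    have h3 : Nat.card N * Nat.card O ∣ Nat.card N * m := by
      refine dvd_trans ?_ h2
      exact ⟨N.index, by ring⟩
    exact Nat.dvd_of_mul_dvd_mul_left Nat.card_pos h3
  have h4 : b ≤ k := by
    by_contra hc
    exact hk ((pow_dvd_pow s (by omega)).trans (hd.trans h1))
  obtain ⟨b', rfl⟩ : ∃ b', b = b' + 1 := ⟨b - 1, by omega⟩
  exact hord b' (by omega)

/-- the order of the core divides `n / |N|` -/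
theorem core_dvd (S : Sit T n l r M) {m : ℕ} (hm : Nat.card N * m = n) : Nat.card O ∣ m := by
  have h2 := S.mul_dvd (O := O) (N := N)
  rw [← hm] at h2
  have h3 : Nat.card N * Nat.card O ∣ Nat.card N * m := by
    refine dvd_trans ?_ h2
    exact ⟨N.index, by ring⟩
  exact Nat.dvd_of_mul_dvd_mul_left Nat.card_pos h3

/-- the index divides `n / |N|` -/
theorem index_dvd' (S : Sit T n l r M) {m : ℕ} (hm : Nat.card N * m = n) : N.index ∣ m := by
  have h2 := S.mul_dvd (O := O) (N := N)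
  rw [← hm] at h2
  have h3 : Nat.card N * N.index ∣ Nat.card N * m := (dvd_mul_left _ _).trans h2
  exact Nat.dvd_of_mul_dvd_mul_left Nat.card_pos h3

omit [Finite T] in
/-- an element of `M` of order prime to `|O|` and to the index of `N` -/
theorem exists_of_coprime {z : T} (hz : z ∈ M) (h1 : Nat.Coprime (orderOf z) (Nat.card O)) (hN : N.Normal)
    (h2 : Nat.Coprime (orderOf z) N.index) : ∃ w : N, orderOf w = orderOf z := by
  have h3 : orderOf (⟨z, hz⟩ : M) = orderOf z := Subgroup.orderOf_mk z hz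
  have h4 := orderOf_mk_of_coprime O (z := (⟨z, hz⟩ : M)) (by rw [h3]; exact h1)
  have h5 := mem_of_coprime_index N (z := QuotientGroup.mk' O (⟨z, hz⟩ : M)) (by rw [h4, h3]; exact h2)
  exact ⟨⟨_, h5⟩, by rw [Subgroup.orderOf_mk, h4, h3]⟩

end Sit

end Cfsg.Agent.H966.Der
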