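import Cfsg.Agent.H966.Der.Idx
import Cfsg.Agent.H257.El.EngA

/-!
# One class of derangements (S3500): centralizers and element orders (helper966)
-/

set_option autoImplicit false

namespace Cfsg.Agent.H966.Der

open Subgroup
open Cfsg.Agent.OrdDiv Cfsg.Agent.H257.El Cfsg.Agent.H439.Der Cfsg.Agent.H938.Sax

universe u

/-- all the elements of order `p` have the same centralizer order if `p ∥ |G|` -/
theorem card_cent_eq {G : Type*} [Group G] [Finite G] {p : ℕ} (hp : p.Prime) (hsq : ¬ p ^ 2 ∣ Nat.card G) {x y : G}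
    (hx : orderOf x = p) (hy : orderOf y = p) :
    Nat.card (centralizer ({x} : Set G)) = Nat.card (centralizer ({y} : Set G)) := by
  have hp' : Fact p.Prime := ⟨hp⟩
  by_contra hne
  obtain ⟨g, hg⟩ := conj_of_cyclic (fun P => cyclic_of_sq hsq P) hx hy
  exact two_of_cent hx hy hne g hg

/-- an element of order `p k`, `p ∥ |G|` -/
theorem dvd_cent {G : Type*} [Group G] [Finite G] {p c k : ℕ} (hp : p.Prime) (hsq : ¬ p ^ 2 ∣ Nat.card G)
    (hc : ∃ x : G, orderOf x = p ∧ Nat.card (centralizer ({x} : Set G)) = c) {z : G} (hk : k ≠ 0)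
    (hz : orderOf z = p * k) : p * k ∣ c := by
  obtain ⟨x, hx, hxc⟩ := hc
  have h1 : orderOf (z ^ k) = p := by
    rw [orderOf_pow_of_dvd hk (by rw [hz]; exact dvd_mul_left _ _), hz, Nat.mul_div_cancel _ (Nat.pos_of_ne_zero hk)]
  have h2 := card_cent_eq hp hsq h1 hx
  rw [hxc] at h2
  have h3 : z ∈ centralizer ({z ^ k} : Set G) := mem_centralizer_singleton_iff.2 ((Commute.refl z).pow_right k).eq
  have h4 := Subgroup.orderOf_dvd_natCard _ h3
  rwa [hz, h2] at h4

/-- an element of prime order `p` centralized by a Sylow subgroup -/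
theorem exists_central (G : Type*) [Group G] [Finite G] {p a : ℕ} (hp : p.Prime) (ha : a ≠ 0)
    (h : p ^ a ∣ Nat.card G) : ∃ z : G, orderOf z = p ∧ p ^ a ∣ Nat.card (centralizer ({z} : Set G)) := by
  have hp' : Fact p.Prime := ⟨hp⟩
  obtain ⟨P⟩ : Nonempty (Sylow p G) := inferInstance
  have hcard : p ^ a ∣ Nat.card P := by
    rw [P.card_eq_multiplicity]
    exact pow_dvd_pow p ((hp.pow_dvd_iff_le_factorization Nat.card_pos.ne').1 h)
  have hnt : Nontrivial P := by
    rw [← Finite.one_lt_card_iff_nontrivial]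
    exact lt_of_lt_of_le (Nat.one_lt_pow ha hp.one_lt) (Nat.le_of_dvd Nat.card_pos hcard)
  have hcen := P.isPGroup'.center_nontrivial
  have hpc : p ∣ Nat.card (center P) := by
    obtain ⟨k, hk⟩ := IsPGroup.iff_card.1 (P.isPGroup'.to_subgroup (center P))
    rw [hk]
    have h1 : 1 < Nat.card (center P) := Finite.one_lt_card_iff_nontrivial.2 hcen
    refine dvd_pow_self p ?_
    rintro rfl
    rw [hk, pow_zero] at h1
    omega
  obtain ⟨⟨z, hz⟩, hzo⟩ := exists_prime_orderOf_dvd_card' (G := center P) p hpc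
  rw [Subgroup.orderOf_mk] at hzo
  refine ⟨z, by rw [Subgroup.orderOf_coe, hzo], hcard.trans ?_⟩
  apply Subgroup.card_dvd_of_le
  intro w hw
  rw [mem_centralizer_singleton_iff]
  exact congrArg Subtype.val (mem_center_iff.1 hz ⟨w, hw⟩)

/-- the survivors are in a list -/
def chkSurv (n : ℕ) (l : List (ℕ × ℕ)) (r : ℕ) (ss : List ℕ) (L : List Grp) : Bool :=
  (surv n l r ss).all fun g => decide (g ∈ L)

theorem mem_of_chkSurv {n : ℕ} {l : List (ℕ × ℕ)} {r : ℕ} {ss : List ℕ} {L : List Grp}
    (h : chkSurv n l r ss L = true) {g : Grp} (hg : g ∈ surv n l r ss) : g ∈ L := by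
  unfold chkSurv at h
  rw [List.all_eq_true] at h
  exact of_decide_eq_true (h g hg)

/-- no element of order `r p`, from the centralizers -/
theorem no_of_cent {T : Type*} [Group T] [Finite T] {r : ℕ} (hr : r.Prime)
    (h : ∀ x : T, orderOf x = r → Nat.card (centralizer ({x} : Set T)) = r) (p : ℕ) (hp : p.Prime) (hrp : r ≠ p)
    (z : T) : orderOf z ≠ r * p := noOrd_of_cent hr h hp hrp z

/-- no element of order `r p` if the centralizers have order `c` -/
theorem no_of_cent' {T : Type*} [Group T] [Finite T] {r c : ℕ}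
    (h : ∀ x : T, orderOf x = r → Nat.card (centralizer ({x} : Set T)) ∣ c) {k : ℕ} (hk : k ≠ 0) (hc : ¬ r * k ∣ c)
    (z : T) : orderOf z ≠ r * k := by
  intro hz
  have h1 : orderOf (z ^ k) = r := by
    rw [orderOf_pow_of_dvd hk (by rw [hz]; exact dvd_mul_left _ _), hz, Nat.mul_div_cancel _ (Nat.pos_of_ne_zero hk)]
  have h3 : z ∈ centralizer ({z ^ k} : Set T) := mem_centralizer_singleton_iff.2 ((Commute.refl z).pow_right k).eq
  have h4 := Subgroup.orderOf_dvd_natCard _ h3
  rw [hz] at h4
  exact hc (h4.trans (h _ h1))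

theorem eq_one_of_mul_dvd {a k : ℕ} (hk : 0 < k) (h : a * k ∣ k) : a = 1 := by
  have h1 : a * k ∣ 1 * k := by rwa [one_mul]
  exact Nat.dvd_one.1 (Nat.dvd_of_mul_dvd_mul_right hk h1)

/-! ### permutations -/

section perm

open Equiv

/-- a prime power dividing the order of a permutation divides the length of a cycle -/
theorem exists_cycle {n : ℕ} (σ : Perm (Fin n)) {p k : ℕ} (hp : p.Prime) (hk : k ≠ 0) (h : p ^ k ∣ orderOf σ) :
    ∃ c ∈ σ.cycleType, p ^ k ∣ c := by
  rw [← Perm.lcm_cycleType] at h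
  have key : ∀ s : Multiset ℕ, (∀ c ∈ s, c ≠ 0) → p ^ k ∣ s.lcm → ∃ c ∈ s, p ^ k ∣ c := by
    intro s
    induction s using Multiset.induction_on with
    | empty =>
      intro _ h
      rw [Multiset.lcm_zero] at h
      exact absurd (Nat.dvd_one.1 h) (Nat.one_lt_pow hk hp.one_lt).ne'
    | cons a s ih =>
      intro h0 h
      have ha : a ≠ 0 := h0 a (Multiset.mem_cons_self a s)
      have hs : s.lcm ≠ 0 := by
        intro h1
        rw [Multiset.lcm_eq_zero_iff] at h1
        exact h0 0 (Multiset.mem_cons_of_mem h1) rfl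
      rw [Multiset.lcm_cons] at h
      change p ^ k ∣ Nat.lcm a s.lcm at h
      rw [hp.pow_dvd_iff_le_factorization (Nat.lcm_ne_zero ha hs), Nat.factorization_lcm ha hs,
        Finsupp.sup_apply, le_sup_iff] at h
      rcases h with h | h
      · exact ⟨a, Multiset.mem_cons_self a s, (hp.pow_dvd_iff_le_factorization ha).2 h⟩
      · obtain ⟨c, hc, hc'⟩ := ih (fun c hc => h0 c (Multiset.mem_cons_of_mem hc))
          ((hp.pow_dvd_iff_le_factorization hs).2 h)
        exact ⟨c, Multiset.mem_cons_of_mem hc, hc'⟩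
  exact key _ (fun c hc => by have := Perm.two_le_of_mem_cycleType hc; omega) h

theorem le_of_mem_cycleType {n : ℕ} {σ : Perm (Fin n)} {c : ℕ} (h : c ∈ σ.cycleType) : c ≤ n := by
  have h1 := Multiset.single_le_sum (fun _ _ => Nat.zero_le _) c h
  rw [Perm.sum_cycleType] at h1
  exact h1.trans (by simpa using Finset.card_le_univ σ.support)

/-- no element of order 25 in `S_n`, `n < 25` -/
theorem no_25 {n : ℕ} (hn : n < 25) (σ : Perm (Fin n)) : orderOf σ ≠ 25 := by
  intro h
  obtain ⟨c, hc, hd⟩ := exists_cycle σ (p := 5) (k := 2) (by norm_num) (by norm_num) (by rw [h]; norm_num)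
  have h1 := le_of_mem_cycleType hc
  have h2 : 0 < c := by have := Perm.two_le_of_mem_cycleType hc; omega
  have h3 := Nat.le_of_dvd h2 hd
  omega

/-- no element of order 24 in `A_11` -/
theorem no_24 (σ : Perm (Fin 11)) (hs : Perm.sign σ = 1) : orderOf σ ≠ 24 := by
  intro h
  obtain ⟨c, hc, hd⟩ := exists_cycle σ (p := 2) (k := 3) (by norm_num) (by norm_num) (by rw [h]; norm_num)
  obtain ⟨d, hd', hdd⟩ := exists_cycle σ (p := 3) (k := 1) (by norm_num) (by norm_num) (by rw [h]; norm_num)
  have h1 := le_of_mem_cycleType hc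
  have h2 : 0 < c := by have := Perm.two_le_of_mem_cycleType hc; omega
  obtain ⟨s, hs'⟩ := Multiset.exists_cons_of_mem hc
  have hc8 : c = 8 := by
    obtain ⟨m, rfl⟩ := hd
    have : m = 1 := by omega
    rw [this]; norm_num
  subst hc8
  have hd8 : d ∈ s := by
    rw [hs', Multiset.mem_cons] at hd'
    rcases hd' with rfl | h3
    · norm_num at hdd
    · exact h3
  obtain ⟨t, ht⟩ := Multiset.exists_cons_of_mem hd8
  have hsum := Perm.sum_cycleType σ
  have hle : σ.support.card ≤ 11 := by simpa using Finset.card_le_univ σ.support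
  rw [hs', ht, Multiset.sum_cons, Multiset.sum_cons] at hsum
  have hd3 : d = 3 := by
    have h4 : 0 < d := by have := Perm.two_le_of_mem_cycleType hd'; omega
    obtain ⟨m, rfl⟩ := hdd
    have : m = 1 := by omega
    rw [this]; norm_num
  subst hd3
  have ht0 : t = 0 := by
    by_contra h5
    obtain ⟨e, he⟩ := Multiset.exists_mem_of_ne_zero h5
    have h6 : 2 ≤ e := Perm.two_le_of_mem_cycleType (σ := σ) (by
      rw [hs', ht]
      exact Multiset.mem_cons_of_mem (Multiset.mem_cons_of_mem he))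
    have h7 := Multiset.single_le_sum (fun _ _ => Nat.zero_le _) e he
    omega
  rw [Perm.sign_of_cycleType, hs', ht, ht0] at hs
  revert hs
  decide

/-- an element of order 28 in `S_11` -/
theorem exists_28 : ∃ σ : Perm (Fin 11), orderOf σ = 28 := by
  refine ⟨List.formPerm [0, 1, 2, 3, 4, 5, 6] * List.formPerm [7, 8, 9, 10], ?_⟩
  refine orderOf_eq_of_pow_and_pow_div_prime (by norm_num) (by decide +kernel) ?_
  intro p hp hd
  have : p ∈ Nat.primeFactors 28 := Nat.mem_primeFactors.2 ⟨hp, hd, by norm_num⟩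
  rw [show Nat.primeFactors 28 = {2, 7} by decide +kernel] at this
  simp only [Finset.mem_insert, Finset.mem_singleton] at this
  rcases this with rfl | rfl <;> decide +kernel

theorem exists_21_10 : ∃ σ : alternatingGroup (Fin 10), orderOf σ = 21 := by
  refine ⟨⟨List.formPerm [0, 1, 2, 3, 4, 5, 6] * List.formPerm [7, 8, 9], by
    rw [Perm.mem_alternatingGroup]; decide +kernel⟩, ?_⟩
  rw [Subgroup.orderOf_mk]
  refine orderOf_eq_of_pow_and_pow_div_prime (by norm_num) (by decide +kernel) ?_
  intro p hp hd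
  have : p ∈ Nat.primeFactors 21 := Nat.mem_primeFactors.2 ⟨hp, hd, by norm_num⟩
  rw [show Nat.primeFactors 21 = {3, 7} by decide +kernel] at this
  simp only [Finset.mem_insert, Finset.mem_singleton] at this
  rcases this with rfl | rfl <;> decide +kernel

theorem exists_21_11 : ∃ σ : alternatingGroup (Fin 11), orderOf σ = 21 := by
  refine ⟨⟨List.formPerm [0, 1, 2, 3, 4, 5, 6] * List.formPerm [7, 8, 9], by
    rw [Perm.mem_alternatingGroup]; decide +kernel⟩, ?_⟩
  rw [Subgroup.orderOf_mk]
  refine orderOf_eq_of_pow_and_pow_div_prime (by norm_num) (by decide +kernel) ?_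
  intro p hp hd
  have : p ∈ Nat.primeFactors 21 := Nat.mem_primeFactors.2 ⟨hp, hd, by norm_num⟩
  rw [show Nat.primeFactors 21 = {3, 7} by decide +kernel] at this
  simp only [Finset.mem_insert, Finset.mem_singleton] at this
  rcases this with rfl | rfl <;> decide +kernel

theorem exists_35_12 : ∃ σ : alternatingGroup (Fin 12), orderOf σ = 35 := by
  refine ⟨⟨List.formPerm [0, 1, 2, 3, 4, 5, 6] * List.formPerm [7, 8, 9, 10, 11], by
    rw [Perm.mem_alternatingGroup]; decide +kernel⟩, ?_⟩
  rw [Subgroup.orderOf_mk]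
  refine orderOf_eq_of_pow_and_pow_div_prime (by norm_num) (by decide +kernel) ?_
  intro p hp hd
  have : p ∈ Nat.primeFactors 35 := Nat.mem_primeFactors.2 ⟨hp, hd, by norm_num⟩
  rw [show Nat.primeFactors 35 = {5, 7} by decide +kernel] at this
  simp only [Finset.mem_insert, Finset.mem_singleton] at this
  rcases this with rfl | rfl <;> decide +kernel

theorem exists_35_13 : ∃ σ : alternatingGroup (Fin 13), orderOf σ = 35 := by
  refine ⟨⟨List.formPerm [0, 1, 2, 3, 4, 5, 6] * List.formPerm [7, 8, 9, 10, 11], by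
    rw [Perm.mem_alternatingGroup]; decide +kernel⟩, ?_⟩
  rw [Subgroup.orderOf_mk]
  refine orderOf_eq_of_pow_and_pow_div_prime (by norm_num) (by decide +kernel) ?_
  intro p hp hd
  have : p ∈ Nat.primeFactors 35 := Nat.mem_primeFactors.2 ⟨hp, hd, by norm_num⟩
  rw [show Nat.primeFactors 35 = {5, 7} by decide +kernel] at this
  simp only [Finset.mem_insert, Finset.mem_singleton] at this
  rcases this with rfl | rfl <;> decide +kernel

end perm

end Cfsg.Agent.H966.Der
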