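import Cfsg.Agent.H966.Der.Eng

/-!
# One class of derangements (S3500): the index of the simple group at the top (helper966)

* `index_mul_eq` : if `r` is isolated in `R`: `|Q : N| * ((|N| / r) mod r) = (|Q| / r) mod r`
* `Sit.index_dvd` : if `r` is isolated in `T`: `|Q : N| * ((|N| / r) mod r) ∣ (|T| / r) mod r`
* `not_dvd_index_of` : no element of order `r s`, `s ^ 2 ∤ r - 1`, `s ∣ |N_N(P)|` : `s ∤ |Q : N|`
-/

set_option autoImplicit false

namespace Cfsg.Agent.H966.Der

open Subgroup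
open Cfsg.Agent.OrdDiv Cfsg.Agent.H257.El Cfsg.Agent.H439.Der Cfsg.Agent.H938.Sax

universe u

section

variable {R : Type*} [Group R] [Finite R] {r : ℕ} {O : Subgroup R} [O.Normal] {N : Subgroup (R ⧸ O)} {s : ℕ}

/-- Frattini: `|Q : N| = |N_Q(P) : N_Q(P) ∩ N|`, `P = ⟨y⟩` a Sylow subgroup of `N` -/
theorem index_eq {Q : Type*} [Group Q] [Finite Q] {r : ℕ} (hr : r.Prime) (N : Subgroup Q) [N.Normal]
    (hd : r ∣ Nat.card N) (h2 : ¬ r ^ 2 ∣ Nat.card N) {y : N} (hy : orderOf y = r) :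
    Nat.card (normalizer ((zpowers (y : Q) : Subgroup Q) : Set Q)) =
      Nat.card (normalizer ((zpowers y : Subgroup N) : Set N)) * N.index := by
  have hr' : Fact r.Prime := ⟨hr⟩
  have hy' : orderOf (y : Q) = r := by rw [Subgroup.orderOf_coe, hy]
  have hPy : IsPGroup r (zpowers y) :=
    IsPGroup.of_card (n := 1) (by rw [Nat.card_zpowers, hy, pow_one])
  obtain ⟨P, hP⟩ := hPy.exists_le_sylow
  have hPc : Nat.card P = r := by
    have h5 := Top.card_sylow_of P (a := 1) (by rw [pow_one]; exact hd) h2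
    rwa [pow_one] at h5
  have hPe : zpowers y = P := by
    apply Subgroup.eq_of_le_of_card_ge hP
    rw [hPc, Nat.card_zpowers, hy]
  have hmap : (P : Subgroup N).map N.subtype = zpowers (y : Q) := by
    rw [← hPe, MonoidHom.map_zpowers]
    rfl
  have hfr := Sylow.normalizer_sup_eq_top P
  rw [hmap] at hfr
  set M := normalizer ((zpowers (y : Q) : Subgroup Q) : Set Q) with hM
  have h5 : N.relIndex (M ⊔ N) = N.relIndex M := Subgroup.relIndex_sup_right _ _
  rw [hfr, Subgroup.relIndex_top_right] at h5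
  have h6 := Subgroup.card_mul_index (N.subgroupOf M)
  have h7 : (N.subgroupOf M).index = N.index := h5.symm
  -- `N ∩ M` is the normaliser in `N`
  have hmem : ∀ w : N, w ∈ zpowers y ↔ (w : Q) ∈ zpowers (y : Q) := by
    intro w
    rw [mem_zpowers_iff, mem_zpowers_iff]
    constructor
    · rintro ⟨j, hj⟩
      exact ⟨j, congrArg Subtype.val hj⟩
    · rintro ⟨j, hj⟩
      exact ⟨j, Subtype.ext hj⟩
  have hyN : ∀ w ∈ zpowers (y : Q), w ∈ N := by
    intro w hw
    obtain ⟨j, rfl⟩ := mem_zpowers_iff.1 hw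
    exact zpow_mem y.2 j
  have h8 : normalizer ((zpowers y : Subgroup N) : Set N) = M.subgroupOf N := by
    ext w
    rw [mem_subgroupOf, mem_normalizer_iff, hM, mem_normalizer_iff]
    constructor
    · intro hh v
      constructor
      · intro hv
        exact (hmem _).1 ((hh ⟨v, hyN v hv⟩).1 ((hmem _).2 hv))
      · intro hv
        have hvN : v ∈ N := by
          have h9 := mul_mem (mul_mem (inv_mem w.2) (hyN _ hv)) w.2
          rwa [show (w : Q)⁻¹ * ((w : Q) * v * (w : Q)⁻¹) * w = v by group] at h9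
        exact (hmem _).1 ((hh ⟨v, hvN⟩).2 ((hmem _).2 hv))
    · intro hh v
      rw [hmem, hmem]
      exact hh v
  have h9 : Nat.card (M.subgroupOf N) = Nat.card (N.subgroupOf M) := by
    have e1 : Nat.card (M.subgroupOf N) = Nat.card (N ⊓ M : Subgroup Q) := by
      rw [← Subgroup.inf_subgroupOf_left]
      exact Nat.card_congr (Subgroup.subgroupOfEquivOfLe inf_le_left).toEquiv
    have e2 : Nat.card (N.subgroupOf M) = Nat.card (N ⊓ M : Subgroup Q) := by
      rw [← Subgroup.inf_subgroupOf_right]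
      exact Nat.card_congr (Subgroup.subgroupOfEquivOfLe inf_le_right).toEquiv
    rw [e1, e2]
  rw [h8, h9, ← h7, h6]

/-- the index of `N` if `r` is adjacent to no prime -/
theorem index_mul_eq (h : Top R r O N) (hno : ∀ p : ℕ, p.Prime → r ≠ p → ∀ z : R, orderOf z ≠ r * p)
    (hne : Nat.card N ≠ r) : N.index * ((Nat.card N / r) % r) = (Nat.card (R ⧸ O) / r) % r := by
  have hN := h.normal
  have hr' : Fact r.Prime := ⟨h.prime⟩
  have hnoQ : ∀ p : ℕ, p.Prime → r ≠ p → ∀ z : R ⧸ O, orderOf z ≠ r * p :=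
    fun p hp hrp => Top.noQuot O (hno p hp hrp)
  have hnoN : ∀ p : ℕ, p.Prime → r ≠ p → ∀ z : N, orderOf z ≠ r * p := fun p hp hrp z => by
    rw [← Subgroup.orderOf_coe]
    exact hnoQ p hp hrp z
  have hN2 : ¬ r ^ 2 ∣ Nat.card N := fun h2 => h.sq' (h2.trans (Subgroup.card_subgroup_dvd_card N))
  obtain ⟨y, hy⟩ := exists_prime_orderOf_dvd_card' (G := N) r h.dvd
  have hy' : orderOf (y : R ⧸ O) = r := by rw [Subgroup.orderOf_coe, hy]
  obtain ⟨h1, -⟩ := card_norm_mod h.prime hN2 hne (card_cent_of_noOrd h.prime hN2 hnoN hy)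
  have hneQ : Nat.card (R ⧸ O) ≠ r := by
    intro h3
    have h4 := Subgroup.card_subgroup_dvd_card N
    rw [h3] at h4
    rcases (Nat.dvd_prime h.prime).1 h4 with h5 | h5
    · have h6 := h.dvd
      rw [h5] at h6
      exact h.prime.one_lt.ne' (Nat.dvd_one.1 h6)
    · exact hne h5
  obtain ⟨h3, -⟩ := card_norm_mod h.prime h.sq' hneQ (card_cent_of_noOrd h.prime h.sq' hnoQ hy')
  have h6 := index_eq h.prime N h.dvd hN2 hy
  rw [h3, h1] at h6
  apply Nat.eq_of_mul_eq_mul_left h.prime.pos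
  rw [h6]; ring

/-- the order of the core -/
theorem card_core_mod (h : Top R r O N) (hno : ∀ p : ℕ, p.Prime → r ≠ p → ∀ z : R, orderOf z ≠ r * p) :
    Nat.card O ≡ 1 [MOD r] := by
  have hr' : Fact r.Prime := ⟨h.prime⟩
  obtain ⟨y, hy⟩ := exists_prime_orderOf_dvd_card' (G := R) r h.dvdR
  have h1 := card_cent_of_noOrd h.prime h.sq hno hy
  have h2 := card_mod_of_normalizer h.prime hy (P := O) (by rw [normalizer_eq_top]; trivial)
  have h3 : Nat.card ↥(O ⊓ centralizer ({y} : Set R)) = 1 := by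
    have h4 : Nat.card ↥(O ⊓ centralizer ({y} : Set R)) ∣ r := by
      rw [← h1]
      exact Subgroup.card_dvd_of_le inf_le_right
    rcases (Nat.dvd_prime h.prime).1 h4 with h5 | h5
    · exact h5
    · exfalso
      apply h.core
      rw [← h5]
      exact Subgroup.card_dvd_of_le inf_le_left
  rwa [h3] at h2

end

/-- **the index**, `r` isolated in `T` -/
theorem Sit.index_dvd {T : Type u} [Group T] [Finite T] {n : ℕ} {l : List (ℕ × ℕ)} {r : ℕ} {M : Subgroup T}
    {O : Subgroup M} [O.Normal] {N : Subgroup (M ⧸ O)} (S : Sit T n l r M) (h : Top M r O N)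
    (hno : ∀ p : ℕ, p.Prime → r ≠ p → ∀ z : T, orderOf z ≠ r * p) (hne : Nat.card N ≠ r) :
    N.index * ((Nat.card N / r) % r) ∣ (n / r) % r := by
  have hr' : Fact r.Prime := ⟨h.prime⟩
  have hnoM : ∀ p : ℕ, p.Prime → r ≠ p → ∀ z : M, orderOf z ≠ r * p :=
    fun p hp hrp => Cfsg.Agent.H257.El.Sit.noR (hno p hp hrp)
  rw [index_mul_eq h hnoM hne]
  -- `|O| ≡ 1`
  have h1 := card_core_mod h hnoM
  have h2 := card_quot_mul O
  have hrQ : r ∣ Nat.card (M ⧸ O) := h.dvd.trans (Subgroup.card_subgroup_dvd_card N)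
  have h3 : (Nat.card (M ⧸ O) / r) % r = (Nat.card M / r) % r := by
    obtain ⟨c, hc⟩ := hrQ
    have h4 : Nat.card M = r * (c * Nat.card O) := by rw [← h2, hc]; ring
    rw [hc, h4, Nat.mul_div_cancel_left _ h.prime.pos, Nat.mul_div_cancel_left _ h.prime.pos]
    have h5 : c * Nat.card O ≡ c * 1 [MOD r] := h1.mul_left c
    rw [mul_one] at h5
    exact h5.symm
  rw [h3]
  obtain ⟨y, hy⟩ := exists_prime_orderOf_dvd_card' (G := M) r S.dvd
  have hy' : orderOf (y : T) = r := by rw [Subgroup.orderOf_coe, hy]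
  have hneM : Nat.card M ≠ r := by
    intro h5
    have h6 : Nat.card N ∣ Nat.card M :=
      (Subgroup.card_subgroup_dvd_card N).trans ⟨_, h2.symm⟩
    rw [h5] at h6
    rcases (Nat.dvd_prime h.prime).1 h6 with h7 | h7
    · have h8 := h.dvd
      rw [h7] at h8
      exact h.prime.one_lt.ne' (Nat.dvd_one.1 h8)
    · exact hne h7
  have hneT : Nat.card T ≠ r := by
    intro h5
    rcases (Nat.dvd_prime h.prime).1 (h5 ▸ Subgroup.card_subgroup_dvd_card M) with h6 | h6
    · have h8 := S.dvd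
      rw [h6] at h8
      exact h.prime.one_lt.ne' (Nat.dvd_one.1 h8)
    · exact hneM h6
  have hsqT : ¬ r ^ 2 ∣ Nat.card T := by rw [S.card]; exact S.sq
  obtain ⟨h5, -⟩ := card_norm_mod h.prime S.sqM hneM (card_cent_of_noOrd h.prime S.sqM hnoM hy)
  obtain ⟨h6, -⟩ := card_norm_mod h.prime hsqT hneT (card_cent_of_noOrd h.prime hsqT hno hy')
  rw [S.card] at h6
  apply Nat.dvd_of_mul_dvd_mul_left h.prime.pos
  rw [← h5, ← h6]
  -- the normaliser in `M` embeds in the normaliser in `T`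
  rw [← Subgroup.card_map_of_injective M.subtype_injective]
  apply Subgroup.card_dvd_of_le
  rintro _ ⟨w, hw, rfl⟩
  rw [SetLike.mem_coe, mem_normalizer_iff] at hw
  have hwy : (w : T) * (y : T) * (w : T)⁻¹ ∈ zpowers (y : T) := by
    obtain ⟨j, hj⟩ := mem_zpowers_iff.1 ((hw y).1 (mem_zpowers y))
    exact mem_zpowers_iff.2 ⟨j, congrArg Subtype.val hj⟩
  exact mem_normalizer_of hwy

/-- a prime `s ∣ |N_N(P)|`, `s ^ 2 ∤ r - 1`, not adjacent to `r`, does not divide the index of `N` -/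
theorem not_dvd_index_of {Q : Type*} [Group Q] [Finite Q] {r s : ℕ} (hr : r.Prime) (hs : s.Prime) (hrs : r ≠ s)
    (N : Subgroup Q) [N.Normal] (hd : r ∣ Nat.card N) (h2 : ¬ r ^ 2 ∣ Nat.card N)
    (hno : ∀ z : Q, orderOf z ≠ r * s) (hs2 : ¬ s ^ 2 ∣ r - 1) {y : N} (hy : orderOf y = r)
    (hN : s ∣ Nat.card (normalizer ((zpowers y : Subgroup N) : Set N))) : ¬ s ∣ N.index := by
  intro hi
  have hr' : Fact r.Prime := ⟨hr⟩
  have hs' : Fact s.Prime := ⟨hs⟩
  have hy' : orderOf (y : Q) = r := by rw [Subgroup.orderOf_coe, hy]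
  have h1 := index_eq hr N hd h2 hy
  have h3 : s ^ 2 ∣ Nat.card (normalizer ((zpowers (y : Q) : Subgroup Q) : Set Q)) := by
    rw [h1, pow_two]
    exact Nat.mul_dvd_mul hN hi
  set C := centralizer ({(y : Q)} : Set Q) with hC
  set M := normalizer ((zpowers (y : Q) : Subgroup Q) : Set Q) with hM
  -- `M / C` embeds in `Aut`
  let φ : M →* MulAut (zpowers (y : Q)) := Subgroup.normalizerMonoidHom (zpowers (y : Q))
  have hker : φ.ker = C.subgroupOf M := by
    have h4 := Subgroup.normalizerMonoidHom_ker (zpowers (y : Q))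
    rw [h4]
    congr 1
    rw [hC, zpowers_eq_closure, centralizer_closure]
  have h5 : s ∣ 1 ∨ ¬ s ∣ Nat.card φ.ker := by
    right
    intro h6
    obtain ⟨⟨w, hw⟩, hwo⟩ := exists_prime_orderOf_dvd_card' (G := φ.ker) s h6
    rw [Subgroup.orderOf_mk] at hwo
    have h7 : (w : Q) ∈ C := by
      rw [hker] at hw
      exact mem_subgroupOf.1 hw
    have h8 : orderOf (w : Q) = s := by rw [Subgroup.orderOf_coe, hwo]
    exact hno _ (orderOf_mul_of_comm hr hs hrs hy' h8 (mem_centralizer_singleton_iff.1 h7).symm)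
  rcases h5 with h5 | h5
  · exact hs.one_lt.ne' (Nat.dvd_one.1 h5)
  · have h6 : Nat.card φ.ker * Nat.card φ.range = Nat.card M := by
      rw [← Subgroup.index_ker, Subgroup.card_mul_index]
    rw [← h6] at h3
    have h7 : s ^ 2 ∣ Nat.card φ.range :=
      (Nat.Coprime.pow_left 2 ((Nat.Prime.coprime_iff_not_dvd hs).2 h5)).dvd_of_dvd_mul_left h3
    have h8 : Nat.card φ.range ∣ r - 1 := by
      refine (Subgroup.card_subgroup_dvd_card _).trans ?_
      have e := IsCyclic.card_mulAut (zpowers (y : Q))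
      rw [e, Nat.card_zpowers, hy', Nat.totient_prime hr]
    exact hs2 (h7.trans h8)

end Cfsg.Agent.H966.Der
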