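import Cfsg.Agent.H966.Der.Suz
import Cfsg.Agent.H966.Der.Fix
import Cfsg.Agent.H439.Der.Three
import Cfsg.Agent.H482.TwoCyc.Untw
import Cfsg.Agent.H482.TwoCyc.Num

/-!
# Three classes of derangements (S3502): the subgroups of `Suz` of order divisible by 13 (helper966)
-/

set_option autoImplicit false
set_option maxRecDepth 100000

namespace Cfsg.Agent.H966.Der

open Subgroup Cfsg
open Cfsg.Agent.OrdDiv Cfsg.Agent.H257.El Cfsg.Agent.H439.Der Cfsg.Agent.H938.Sax

universe u

section word

open Cfsg.Agent.H92.KTools Cfsg.Agent.H771 Cfsg.Agent.H771.KTools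
open Cfsg.Agent.Lib.PermNet Cfsg.Agent.Lib.PermNetOrbit Cfsg.Agent.SporadicRecognition.SuzPhi
open Cfsg.Agent.SuzThree.Basic Cfsg.Agent.CpAutSuz.Fix Cfsg.Agent.SporadicRecognition.SuzOrder

theorem ord_suz_18 : HasOrd Spor.Suz 18 := by
  refine hasOrd_of_pow (x := el [.f, .g, .b, .c, .e, .f, .d, .c, .b]) (by norm_num) ?_ ?_
  · rw [el_pow]
    exact eq_of_reps (Rep.el _) Rep.one (by decide +kernel)
  · intro p hp
    rw [show Nat.primeFactors 18 = {2, 3} by decide +kernel] at hp
    simp only [Finset.mem_insert, Finset.mem_singleton] at hp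
    rcases hp with rfl | rfl
    · rw [show 18 / 2 = 9 from rfl, el_pow]
      exact ne_one_of_mv (Rep.el _) (p := 0) (q := 726) (by decide +kernel) (by norm_num)
    · rw [show 18 / 3 = 6 from rfl, el_pow]
      exact ne_one_of_mv (Rep.el _) (p := 0) (q := 713) (by decide +kernel) (by norm_num)

end word

/-- the odd part of the orders of the elements of `G₂(4)` -/
theorem no_9_g24 {S : Type*} [Group S] (h : Real (.g2 4) S) (z : S) : orderOf z ≠ 9 := by
  obtain ⟨F, _, _, hF, ⟨e⟩⟩ := h
  intro hz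
  obtain ⟨p, f, m, j, hp, hf, hq, ho, hm, hmp, hj2, hj3, ⟨S', hS1, hS2, hS3⟩, -⟩ :=
    Cfsg.Agent.H482.TwoCyc.Untw.ords_G2 (e z)
  rw [Nat.card_eq_fintype_card, hF] at hq hS3
  rw [MulEquiv.orderOf_eq, hz] at ho
  -- `p = 2`
  have hp2 : p = 2 := by
    have h1 : p ∣ 4 := by rw [hq]; exact dvd_pow_self p (by omega)
    have h2 : p ∣ 2 := by
      rw [show (4 : ℕ) = 2 ^ 2 by norm_num] at h1
      exact hp.dvd_of_dvd_pow h1
    exact (Nat.prime_dvd_prime_iff_eq hp Nat.prime_two).1 h2
  subst hp2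
  have hj : j = 0 := by
    by_contra hj0
    have h1 : 2 ∣ 9 := by
      rw [ho]
      exact (dvd_pow_self 2 hj0).mul_left m
    norm_num at h1
  rw [hj, pow_zero, mul_one] at ho
  subst ho
  -- `9` divides the product of the values of the cyclotomic polynomials
  have hsub : ∀ n ∈ S', n ∈ ({1, 2, 3, 4, 6} : Finset ℕ) := by
    intro n hn
    have h1 : Nat.totient n ≤ 2 := (Finset.single_le_sum (fun _ _ => Nat.zero_le _) hn).trans hS2
    have h2 := Cfsg.Agent.H482.TwoCyc.Num.mem_tab (hS1 n hn) (by omega)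
    simp only [List.mem_cons, List.not_mem_nil, or_false] at h2
    rcases h2 with rfl | rfl | rfl | rfl | rfl | rfl | rfl | rfl | rfl | rfl | rfl | rfl | rfl <;>
      first | decide | (exfalso; revert h1; decide)
  let f : ℕ → ℤ := fun n => if n = 1 then 3 else if n = 2 then 5 else if n = 3 then 21 else if n = 4 then 17 else 13
  have hf : ∀ n ∈ S', (Polynomial.cyclotomic n ℤ).eval ((4 : ℕ) : ℤ) = f n := by
    intro n hn
    have h2 := hsub n hn
    simp only [Finset.mem_insert, Finset.mem_singleton] at h2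
    rcases h2 with rfl | rfl | rfl | rfl | rfl
    · rw [Cfsg.Agent.H482.TwoCyc.Num.v1]; decide
    · rw [Cfsg.Agent.H482.TwoCyc.Num.v2]; decide
    · rw [Cfsg.Agent.H482.TwoCyc.Num.v3 4 (by norm_num)]; decide
    · rw [Cfsg.Agent.H482.TwoCyc.Num.v4 4 (by norm_num)]; decide
    · rw [Cfsg.Agent.H482.TwoCyc.Num.v6 4 (by norm_num)]; decide
  rw [Polynomial.eval_prod, Finset.prod_congr rfl hf] at hS3
  have hall : ∀ S ∈ ({1, 2, 3, 4, 6} : Finset ℕ).powerset, ∑ n ∈ S, Nat.totient n ≤ 2 →
      ¬ (9 : ℤ) ∣ ∏ n ∈ S, (if n = 1 then 3 else if n = 2 then 5 else if n = 3 then 21 else if n = 4 then 17 else 13 : ℤ) := by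
    decide +kernel
  exact hall S' (Finset.mem_powerset.2 hsub) hS2 hS3

namespace Suz

variable {T : Type u} [Group T]

theorem cent_13 (h : Spor.IsoSuz T) {x : T} (hx : orderOf x = 13) : Nat.card (centralizer ({x} : Set T)) = 13 := by
  have := finite ⟨MulEquiv.refl Spor.Suz⟩
  obtain ⟨e⟩ := h
  rw [cent_map e x, Cfsg.Agent.H153.Zeros.card_cent_suz (by rw [MulEquiv.orderOf_eq, hx])]

theorem cent_7 (h : Spor.IsoSuz T) {x : T} (hx : orderOf x = 7) : Nat.card (centralizer ({x} : Set T)) = 84 := by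
  have := finite ⟨MulEquiv.refl Spor.Suz⟩
  obtain ⟨e⟩ := h
  rw [cent_map e x, Cfsg.Agent.H805.NilSp.cent_seven_Suz (by rw [MulEquiv.orderOf_eq, hx])]

variable (tab : OrderTable.{u}) (known : Known.{u})

include tab known in
/-- **the subgroups of order divisible by 5, 7 and 13** -/
theorem three_of_13 (h : Spor.IsoSuz T) {M : Subgroup T} (hM : M ≠ ⊤) (h5 : 5 ∣ Nat.card M) (h7 : 7 ∣ Nat.card M)
    (h13 : 13 ∣ Nat.card M) : Three T M := by
  have hfin := finite h
  have hc := Cfsg.Agent.NotCT.Orders.suz h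
  have h11' : Fact (Nat.Prime 11) := ⟨by norm_num⟩
  have h3' : Fact (Nat.Prime 3) := ⟨by norm_num⟩
  have no35 : ∀ z : T, orderOf z ≠ 35 := no_7 h (k := 5) (by norm_num) (by norm_num)
  obtain ⟨x14, e14⟩ := exists_ord h Cfsg.Agent.H153.Zeros.ord_suz_14
  obtain ⟨x18, e18⟩ := exists_ord h ord_suz_18
  obtain ⟨x11, e11⟩ := exists_prime_orderOf_dvd_card' (G := T) 11 (by rw [hc]; norm_num)
  have S : Sit T 448345497600 l 13 M := ⟨tab, known, hc, valid_l, by norm_num, by norm_num, h13, hM⟩
  obtain ⟨O, hO, N, hT⟩ := S.exists_top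
  have hNn := hT.normal
  have hd7 := S.dvd_simple hT (s := 7) (by norm_num) (iso_13 h 7 (by norm_num) (by norm_num)) (by decide +kernel) h7
  have hd5 := S.dvd_simple hT (s := 5) (by norm_num) (iso_13 h 5 (by norm_num) (by norm_num)) (by decide +kernel) h5
  have hna := Cfsg.Agent.H257.El.Sit.not_comm_of_dvd hT (by norm_num) (by norm_num) hd7
  obtain ⟨g, hg, hr, hgc⟩ := S.exists_surv hT hna [7, 5] (by simp [hd7, hd5])
  have hg' := mem_of_chkSurv (L := [.alt 13, .psl 2 64, .psl 3 9, .g2 4, .sz 8]) (by decide +kernel) hg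
  have hne : Nat.card N ≠ 13 := by
    intro h1
    rw [h1] at hd7
    norm_num at hd7
  have hi := S.index_dvd hT (iso_13 h) hne
  simp only [List.mem_cons, List.not_mem_nil, or_false] at hg'
  rcases hg' with rfl | rfl | rfl | rfl | rfl
  · -- `A13`
    exfalso
    obtain ⟨e⟩ := hr
    obtain ⟨σ, hσ⟩ := exists_35_13
    obtain ⟨z, hz⟩ := Cfsg.Agent.H257.El.Sit.exists_orderOf (N := N) (k := 35)
      ⟨e.symm σ, by rw [MulEquiv.orderOf_eq, hσ]⟩
    exact no35 z hz
  · exfalso
    have hgc' : Nat.card N = 262080 := by rw [hgc]; decide +kernel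
    rw [hgc'] at hi
    have h1 := (dvd_mul_left _ _).trans hi
    norm_num at h1
  · exfalso
    have hgc' : Nat.card N = 42456960 := by rw [hgc]; decide +kernel
    rw [hgc'] at hi
    have h1 := (dvd_mul_left _ _).trans hi
    norm_num at h1
  · -- `G2(4)`
    have hgc' : Nat.card N = 251596800 := by rw [hgc]; decide +kernel
    rw [hgc'] at hi
    norm_num at hi
    have hi := eq_one_of_mul_dvd (by norm_num) hi
    have hO2 : ¬ 2 ∣ Nat.card O := S.not_dvd_core hT (s := 2) (m := 1782) (k := 1) (by norm_num) (by norm_num)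
      (iso_13 h 2 (by norm_num) (by norm_num)) (by rw [hgc']) (by norm_num) (by decide)
    have hO7 : ¬ 7 ∣ Nat.card O := S.not_dvd_core hT (s := 7) (m := 1782) (k := 0) (by norm_num) (by norm_num)
      (iso_13 h 7 (by norm_num) (by norm_num)) (by rw [hgc']) (by norm_num) (by decide)
    have hOd : Nat.card O ∣ 1782 := S.core_dvd (N := N) (by rw [hgc'])
    have hO3 : ¬ 3 ∣ Nat.card O := by
      intro h3
      obtain ⟨P⟩ : Nonempty (Sylow 3 O) := inferInstance
      obtain ⟨b, hb0, hb, hbO⟩ := sylow_core (by norm_num) h3 P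
      have hb4 : b ≤ 4 := by
        by_contra hb5
        have h1 := (pow_dvd_pow 3 (show 5 ≤ b by omega)).trans (hbO.trans hOd)
        norm_num at h1
      obtain ⟨d, hd1, hd2, hd3⟩ := exists_fix (q := 13) (by norm_num) hT.dvdR O hT.core P (c := 13) (fun y hy => by
        have h3 := cent_sub y
        rwa [cent_13 h (x := (y : T)) (by rw [Subgroup.orderOf_coe, hy])] at h3)
      obtain ⟨f, hf1, hf2, hf3⟩ := exists_fix (q := 7) (by norm_num) h7 O hO7 P (c := 84) (fun y hy => by
        have h3 := cent_sub y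
        rwa [cent_7 h (x := (y : T)) (by rw [Subgroup.orderOf_coe, hy])] at h3)
      rw [hb] at hd1 hd3 hf1 hf3
      obtain ⟨j, -, hj⟩ := (Nat.dvd_prime_pow Nat.prime_three).1 hd1
      obtain ⟨k, -, hk⟩ := (Nat.dvd_prime_pow Nat.prime_three).1 hf1
      have hj0 : j = 0 := by
        by_contra hj2
        have h3 := (pow_dvd_pow 3 (show 1 ≤ j by omega)).trans (hj ▸ hd2)
        norm_num at h3
      have hk1 : k ≤ 1 := by
        by_contra hj2
        have h3 := (pow_dvd_pow 3 (show 2 ≤ k by omega)).trans (hk ▸ hf2)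
        norm_num at h3
      subst hj hk hj0
      unfold Nat.ModEq at hd3 hf3
      interval_cases k <;> interval_cases b <;> omega
    have c2 : Nat.Coprime 2 (Nat.card O) := (Nat.Prime.coprime_iff_not_dvd (by norm_num)).2 hO2
    have c3 : Nat.Coprime 3 (Nat.card O) := (Nat.Prime.coprime_iff_not_dvd (by norm_num)).2 hO3
    have c7 : Nat.Coprime 7 (Nat.card O) := (Nat.Prime.coprime_iff_not_dvd (by norm_num)).2 hO7
    have h11 : ¬ 11 ∣ Nat.card M := by
      intro h11
      have h1 := S.dvd_simple hT (s := 11) (by norm_num) (iso_13 h 11 (by norm_num) (by norm_num))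
        (by decide +kernel) h11
      rw [hgc'] at h1
      norm_num at h1
    have k11 : ∀ m ∈ M, orderOf m ≠ 11 := fun m hm hmo => h11 (by
      rw [← hmo]
      exact Subgroup.orderOf_dvd_natCard _ hm)
    refine Three.of_orders (a := 11) (b := 14) (c := 18) (by norm_num) (by norm_num) (by norm_num) e11 e14 e18 k11
      (fun m hm hmo => ?_) (fun m hm hmo => ?_)
    · obtain ⟨w, hw⟩ := Sit.exists_of_coprime hm (O := O) (N := N)
        (by rw [hmo, show 14 = 2 * 7 by norm_num]; exact c2.mul_left c7) hNn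
        (by rw [hi]; exact Nat.coprime_one_right _)
      exact no_14_g24 tab hr w (by rw [hw, hmo])
    · obtain ⟨w, hw⟩ := Sit.exists_of_coprime (M.pow_mem hm 2) (O := O) (N := N) (by
          rw [orderOf_pow_of_dvd (by norm_num) (by rw [hmo]; norm_num), hmo, show 18 / 2 = 3 * 3 by norm_num]
          exact c3.mul_left c3) hNn
        (by rw [hi]; exact Nat.coprime_one_right _)
      exact no_9_g24 hr w (by rw [hw, orderOf_pow_of_dvd (by norm_num) (by rw [hmo]; norm_num), hmo])
  · exfalso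
    have hgc' : Nat.card N = 29120 := by rw [hgc]; decide +kernel
    rw [hgc'] at hi
    have h1 := (dvd_mul_left _ _).trans hi
    norm_num at h1

end Suz

end Cfsg.Agent.H966.Der
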